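import Mathlib
import Cfsg.Agent.Lib.OutStrip
import Cfsg.Agent.TcData.Fi24.I306936.Rep
import Cfsg.Agent.Lib.FiO.Q12
import Cfsg.Agent.Lib.FiO.Q13
import Cfsg.Agent.Lib.FiO.Q14
import Cfsg.Agent.Lib.FiO.Q15
import Cfsg.Agent.Lib.FiO.Q16

set_option autoImplicit false
set_option maxRecDepth 100000
set_option Elab.async false
set_option linter.all false

namespace Cfsg.Agent.Lib.FiO

open Cfsg.Spor Cfsg.Agent.Lib.OutStrip Cfsg.Agent.Lib.TcFacts Cfsg.Agent.Lib.TcBits Cfsg.Agent.Lib.TcChain Cfsg.Agent.Lib.TcPres
open Cfsg.Agent.TcData.Fi24
open Cfsg.Agent.TcData.Fi24.I306936 (pr Phi hR hv)

/-- The words of the programs. -/
def WL : List (List (ℕ × Bool)) := [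
  [(0, true)],
  [(1, true)],
  [(2, true)],
  [(3, true)],
  [(4, true)],
  [(5, true)],
  [(6, true)],
  [(7, true)],
  [(8, true)],
  [(9, true)],
  [(10, true)],
  [(11, true)],
  [(9, true), (8, true), (5, false), (10, false), (7, false), (3, false), (0, false), (9, false), (9, true), (9, true), (10, true), (5, false), (0, false), (10, false), (6, true), (0, false), (11, true), (10, true), (2, false), (5, true), (11, true), (0, true), (0, false), (10, false), (6, true), (0, false), (11, true), (10, true), (2, false), (5, true), (11, true), (0, true), (4, true), (2, false), (11, false), (3, false), (4, true), (5, false), (6, true), (8, false), (2, false), (9, false), (3, true), (7, true), (10, false), (0, true), (7, false), (6, true), (3, false), (0, false), (2, false), (11, true), (2, false), (3, false), (10, false), (11, false), (2, true), (4, false), (7, false), (7, true), (6, true), (10, false), (4, true), (10, false), (2, false), (5, true), (9, true), (4, false), (10, true), (11, false), (4, false), (4, true), (3, false), (5, true), (5, false), (8, false), (3, false), (8, true), (2, false), (10, false), (4, true), (2, false), (0, true), (0, false), (11, false), (11, true), (9, true), (5, true), (11, true), (9, true), (2, true), (8, true), (9, true), (11, false),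 (2, false), (7, true), (9, true), (5, false), (9, true), (8, false), (9, true), (5, false), (8, false), (9, true), (9, true), (7, false), (7, true), (10, false), (2, true), (4, false), (11, true), (0, true), (11, true), (7, false), (3, false), (10, true), (5, false), (7, false), (9, true), (8, false), (8, true), (9, true), (9, true), (10, true), (6, true), (8, true), (9, false), (3, false), (7, false), (5, false), (4, false), (4, false), (5, true), (9, false), (8, false), (0, true), (11, false), (9, true), (10, false), (7, false), (3, true), (5, false), (6, false), (5, false), (4, false), (0, false), (10, true), (7, false), (4, false), (4, true), (3, false), (10, true), (3, false), (5, true), (3, true), (3, false), (8, true), (7, true), (4, false), (5, true), (4, true), (8, false), (3, true), (10, true), (4, false), (8, false), (10, true), (11, false), (2, false), (3, true), (7, true), (8, true), (3, false), (4, false), (8, false), (7, true), (5, true), (10, true), (4, false), (0, true), (0, false), (6, false), (10, true)],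
  [(5, true), (6, true), (5, true), (4, false), (10, true), (9, false), (3, true), (3, true), (5, false), (7, true), (8, true), (8, false), (6, false), (10, false), (11, true), (8, false), (4, false), (10, true), (9, false), (3, true), (0, false), (6, true), (6, true), (11, false), (0, false), (7, true), (5, false), (6, true), (4, false), (9, true), (6, false), (9, true), (11, false), (6, false), (2, false), (0, true), (4, true), (3, true), (4, true), (6, false), (6, false), (11, true), (8, true), (11, false), (4, true), (7, false), (10, true), (5, false), (3, true), (7, true), (0, false), (3, true), (7, false), (5, false), (3, false), (2, false), (0, true), (11, false), (4, false), (7, false), (9, false), (7, false), (11, true), (11, true), (9, false), (3, true), (10, true), (4, true), (0, false), (4, false), (10, false), (9, true), (7, false), (2, false), (0, true), (9, true), (8, true), (9, true), (0, true), (5, true), (7, true), (3, false), (6, false), (11, true), (9, false), (9, true), (7, false), (4, true), (5, true), (3, true), (5, false), (10, true), (6, true), (3, true), (5, true), (5, false), (0, true), (3, false), (4, true), (10, false), (4, false), (4, false), (9, true), (4, true), (2, true), (11, true), (7, true), (11, true), (10, true), (9, false), (4, false),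 (3, true), (11, false), (7, true), (3, true), (3, true), (9, true), (9, false), (4, false), (0, true), (10, false), (10, true), (8, true), (0, true), (6, true), (3, false), (11, false), (2, false), (11, false), (4, false), (7, true), (4, false), (7, false), (9, true), (10, true), (0, false), (4, false), (10, true), (8, false), (4, true), (11, true), (11, false), (9, true), (7, false), (11, true), (5, true), (11, false), (3, true), (0, true), (0, true), (7, false), (9, false), (6, false), (2, true), (0, false), (8, true), (3, false), (4, false), (7, false), (4, true), (11, false), (2, true), (0, true), (10, true), (3, false), (5, true), (10, false), (10, true), (7, false), (10, false)],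
  [(13, true), (12, true), (13, false), (12, false), (12, true), (13, true), (13, true), (12, true), (13, false), (13, true), (12, true), (12, false), (13, true), (12, false), (12, false), (13, false), (12, true), (12, false), (13, true), (13, true), (12, true), (13, false), (13, false), (12, false), (13, true), (12, false), (12, false), (13, true), (13, true), (12, false), (12, true), (12, false), (13, true), (12, false), (12, true), (13, false), (13, false), (13, false), (13, true), (13, false), (13, true), (13, true), (13, true), (12, false), (12, true), (12, true), (13, true), (12, true), (13, false), (13, true), (13, true), (12, true), (13, false), (12, true), (12, true), (13, false), (12, true), (13, false), (12, true), (12, true), (12, false), (13, false), (13, true), (12, true), (13, true), (13, false), (13, false), (12, true), (13, true), (13, true), (12, true), (12, true), (13, true), (12, true), (12, true), (13, true), (12, true), (12, false), (13, false), (12, false), (13, true), (13, false)],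
  [(13, false), (13, false), (13, false), (12, false), (13, true), (12, true), (12, true), (13, false), (12, false), (13, true), (12, true), (13, false), (12, true), (12, true), (12, false), (13, true), (12, true), (13, false), (13, false), (12, true), (13, true), (13, false), (12, false), (13, false), (13, false), (12, false), (12, true), (12, false), (13, true), (12, true), (13, true), (13, false), (12, true), (12, true), (13, true), (13, false), (13, false), (12, false), (12, true), (12, true), (13, false), (13, true), (12, false), (13, true), (12, true), (13, false), (12, false), (13, true), (12, false), (12, true), (12, true), (12, false), (13, false), (13, true), (12, true), (13, true), (12, true), (13, false), (12, false), (13, true), (13, false), (12, true), (13, true), (13, false), (12, false), (12, false), (12, false), (13, false), (12, false), (13, false), (12, true), (13, false), (13, true)],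
  [(13, true), (12, false), (13, true), (12, true), (12, false), (12, true), (12, false), (13, true), (12, false), (12, false), (13, true), (12, true), (12, false), (12, true), (12, false), (13, true), (12, false), (12, true), (12, false), (13, true), (12, false), (13, false), (13, false), (13, true), (12, true), (13, false), (13, true), (12, true), (13, false), (13, true), (13, false), (13, true), (12, false), (13, true), (12, false), (13, false), (13, true), (12, false), (12, true), (13, true), (13, false), (13, false), (12, false), (12, false), (13, true), (12, false), (13, false), (12, false), (13, false), (13, false), (12, false), (13, true), (12, true), (13, true), (13, true), (13, false), (12, true), (13, false), (13, true), (13, false), (13, false), (13, false), (12, false), (12, true), (13, true), (13, true), (13, true), (13, false), (12, true), (12, true), (12, true), (12, false), (13, true), (13, false), (12, true), (12, false), (13, false), (12, true), (13, true), (13, false), (12, true), (13, false), (13, false), (12, true), (13, true), (12, false)],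
  [(16, false), (14, false), (15, false), (16, true), (14, false), (16, false), (16, false), (14, false), (16, false), (15, false), (15, false), (15, false), (16, false)],
  [(16, false), (15, false), (14, true), (16, false), (15, true), (14, false), (15, true), (15, true), (16, true), (15, false), (14, true), (15, false)],
  [(16, false), (14, true), (15, true), (14, true), (16, true), (15, true), (15, true), (16, true), (14, false), (15, false), (14, false), (16, true)],
  [(16, true), (14, true), (15, false), (15, false), (16, true), (15, true), (16, false), (14, true), (14, true), (16, false), (15, true), (16, false)]
]

/-- The word of a program. -/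
def W (t : ℕ) : List (ℕ × Bool) := WL.getD t []

/-- The programs of the generators and of the deeper levels. -/
noncomputable def pLL0 : List (List (ℕ × ℕ)) := [pr .l, pr .k, pr .a, pr .b, pr .c, pr .d, pr .e, pr .f, pr .g, pr .j, pr .h, pr .i, q12, q13, q14, q15, q16]

/-- The program of a number. -/
noncomputable def pL0 (i : ℕ) : List (ℕ × ℕ) := pLL0.getD i []

/-- A program. -/
noncomputable def q17 : List (ℕ × ℕ) := (W 17).flatMap (sgnProg pL0)

/-- A program. -/
noncomputable def q18 : List (ℕ × ℕ) := (W 18).flatMap (sgnProg pL0)

/-- A program. -/
noncomputable def q19 : List (ℕ × ℕ) := (W 19).flatMap (sgnProg pL0)

/-- A program. -/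
noncomputable def q20 : List (ℕ × ℕ) := (W 20).flatMap (sgnProg pL0)

/-- All programs. -/
noncomputable def pLL : List (List (ℕ × ℕ)) := [pr .l, pr .k, pr .a, pr .b, pr .c, pr .d, pr .e, pr .f, pr .g, pr .j, pr .h, pr .i, q12, q13, q14, q15, q16, q17, q18, q19, q20]

/-- The program of a number. -/
noncomputable def pL (i : ℕ) : List (ℕ × ℕ) := pLL.getD i []

theorem hvL : ∀ p ∈ pLL, validProg (2 ^ 19) p = true := by decide +kernel

theorem hvp : ∀ i, validProg (2 ^ 19) (pL i) = true := valid_getD hvL

/-- A level of the chain. -/
def S0 : List ℕ := [0, 1, 2, 3, 4, 5, 6, 7, 8, 9, 10, 11]

/-- A level of the chain. -/
def S1 : List ℕ := [0, 2, 3, 4, 5, 6, 7, 8, 9, 10, 11]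

/-- A level of the chain. -/
def S2 : List ℕ := [12, 13]

/-- A level of the chain. -/
def S3 : List ℕ := [14, 15, 16]

/-- A level of the chain. -/
def S4 : List ℕ := [17, 18, 19, 20]

/-- A level of the chain. -/
def S5 : List ℕ := []

theorem hS0 : ∀ i ∈ S0, pL i = pr (gensL.getD i .l) := by decide +kernel

theorem hK : Gp pL S0 ≤ Phi.range := Gp_le_range hR pL S0 (fun i => gensL.getD i .l) hS0

end Cfsg.Agent.Lib.FiO
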