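import Mathlib
import Cfsg.Agent.Lib.FiO.Defs
import Cfsg.Agent.Lib.FiO.Masks
import Cfsg.Agent.Lib.FiO.Sv
import Cfsg.Agent.Lib.FiO.Tab0
import Cfsg.Agent.Lib.FiO.Tab1
import Cfsg.Agent.Lib.FiO.Tab2

set_option autoImplicit false
set_option maxRecDepth 100000
set_option Elab.async false
set_option linter.all false

namespace Cfsg.Agent.Lib.FiO

open Cfsg.Spor Cfsg.Agent.Lib.OutStrip Cfsg.Agent.Lib.TcFacts Cfsg.Agent.Lib.TcBits Cfsg.Agent.Lib.TcChain Cfsg.Agent.Lib.TcPres
open Cfsg.Agent.TcData.Fi24
open Cfsg.Agent.TcData.Fi24.I306936 (pr Phi hR hv)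

/-- chunk mask -/
def CMl : ℕ := nat_lit 0xfffffffffffffffffffffffffffffffffffffffffffffffffffffffffffffffffffffffffffffffffffffffffffffffffffffffffffffffffffffffffffffffffffffffffffffffffffffffffffffffffffffffffffffffffffffffffffffffffffffffffffffffffffffffffffffffffffffffffffffffffffffffffffffffffffffffffffffffffffffffffffffffffffffffffffffffffffffffffffffffffffffffffffffffffffffffffffffffffffffffffffffffffffffffffffffffffffffffffffffffffffffffffffffffffffffffffffffffffffffffffffffffffffffffffffffffffffffffffffffffffffffffffffffffffffffffffffffffffffffffffffffffffffffffffffffffffffffffffffffffffffffffffffffffffffffffffffffffffffffffffffffffffffffffffffffffffffffffffffffffffffffffffffffffffffffffffffffffffffffffffffffffffffffffffffffffffffffffffffffffffffffffffffffffffffffffffffffffffffffffffffffffffffffffffffffffffffffffffffffffffffffffffffffffffffffffffffffffffffffffffffffffffffffffffffffffffffffffffffffffffffffffffffffffffffffffffffffffffffffffffffffffffffffffffffffffffffffffffffffffffffffffffffffffffffffffffffffffffffffffffffffffffffffffffffffffffffffffffffffffffffffffffffffffff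ffffffffffffffffffffffffffffffffffffffffffffffffffffffffffffffffffffffffffffffffffffffffffffffffffffffffffffffffffffffffffffffffffffffffffffffffffffffffffffffffffffffffffffffffffffffffffffffffffffffffffffffffffffffffffffffffffffffffffffffffffffffffffffffffffffffffffffffffffffffffffffffffffffffffffffffffffffffffffffffffffffffffffffffffffffffffffffffffffffffffffffffffffffffffffffffffffffffffffffffffffffffffffffffffffffffffffffffffffffffffffffffffffffffffffffffffffffffffffffffffffffffffffffffffffffffffffffffffffffffffffffffffffffffffffffffffffffffffffffffffffffffffffffffffffffffffffffffffffffffffffffffffffffffffffffffffffffffffffffffffffffffffffffffffffffffffffffffffffffffffffffffffffffffffffffffffffffffffffffffffffffffffffffffffffffffffffffffffffffffffffffffffffffffffffffffffffffffffffffffffffffffffffffffffffffffffffffffffffffffffffffffffffffffffffffffffffffffffffffffffffffffffffffffffffffffffffffffffffffffffffffffffffffffffffffffffffffffffffffffffffffffffffffffffffffffffffffffffffffffffffffffffffffffffffffffffffffffffffffffffffffffffffffffffffffffffffffffffffffffffffffffffffffffffffffff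ffffffffffffffffffffffffffffffffffffffffffffffffffffffffffffffffffffffffffffffffffffffffffffffffffffffffffffffffffffffffffffffffffffffffffffffffffffffffffffffffffffffffffffffffffffffffffffffffffffffffffffffffffffffffffffffffffffffffffffffffffffffffffffffffffffffffffffffffffffffffffffffffffffffffffffffffffffffffffffffffffffffffffffffffffffffffffffffffffffffffffffffffffffffffffffffffffffffffffffffffffffffffffffffffffffffffffffffffffffffffffffffffffffffffffffffffffffffffffffffffffffffffffffffffffffffffffffffffffffffffffffffffffffffffffffffffffffffffffffffffffffffffffffffffffffffffffffffffffffffffffffffffffffffffffffffffffffffffffffffffffffffffffffffffffffffffffffffffffffffffffffffffffffffffffffffffffffffffffffffffffffffffffffffffffffffffffffffffffffffffffffffffffffffffffffffffffffffffffffffffffffffffffffffffffffffffffffffffffffffffffffffffffffffffffffffffffffffffffffffffffffffffffffffffffffffffffffffffffffffffffffffffffffffffffffffffffffffffffffffffffffffffffffffffffffffffffffffffffffffffffffffffffffffffffffffffffffffffffffffffffffffffffffffffffffffffffffffffffffffffffffffffffffffffffffff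fffffffffffffffffffffffffffffffffffffffffffffffffffffffffffffffffffffffffffffffffffffffffffffffffffffffffffffffffffffffffffffffffffffffffffffffffffffffffffffffffffffffffffffffffffffffffffffffffffffffffffffffffffffffffffffffffffffffffffffffffffffffffffffffffffffffffffffffffffffffffffffffffffffffffffffffffffffffffffffffffffffffffffffffffffffffffffffffffffffffffffffffffffffffffffffffffffffffffffffffffffffffffffffffffffffffffffffffffffffffffffffffffffffffffffffffffffffffffffffffffffffffffffffffffffffffffffffffffffffffffffffffffffffffffffffffffffffffffffffffffffffffffffffffffffffffffffffffffffffffffffffffffffffffffffffffffffffffffffffffffffffffffffffffffffffffffffffffffffffffffffffffffffffffffffffffffffffffffffffffffffffffffffffffffffffffffffffffffffffffffffffffffffffffffffffffffffffffffffffffffffffffffffffffffffffffffffffffffffffffffffffffffffffffffffffffffffffffffffffffffffffffffffffffffffffffffffffffffffffffffffffffffffffffffffffffffffffffffffffffffffffffffffffffffffffffffffffffffffffffffffffffffffffffffffffffffffffffffffffffffffffffffffffffffffffffffffffffffffffffffffffffffffffffffffffffffffffffffffffffffffffffffffffffffffffffffffffffffffffffffffffffffffffffffffffffffffffffffffffffffffffffffffffffffffffffffffffffffffffffffffffffffffffffffffffffffffffffffffffffffffffffffffffffffffffffffffffffffffffffffffffffffffffffffffffffffffffffffffffffffffffffffffffffffffffffffffffffffffffffffffffffffffffffffffffffffffffffffffffffffffffffffffffffffffffffffffffffffffffffffffffffffffffffffffffffffffffffffffffffffffffff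
/-- chunk mask -/
noncomputable def CMm : ℕ := Nat.sub (Nat.shiftLeft (nat_lit 1) (nat_lit 612864)) (nat_lit 1)
/-- chunk mask -/
def CMs : ℕ := nat_lit 0xffffffffffffffffffffffffffffffffffffffffffffffffffffffffffffffffffffffffffffffffffffffffffffffffffffffffffffffffffffffffffffffffffffffffffffffffffffffffffffffffffffffffffffffffffffffffffffffffffffffffffffffffffffffffffffffffffffffffffffffffffffffffffffffffffffffffffffffffffffffffffffffffffffffffffffffffffffffffffffffff
/-- chunk mask -/
noncomputable def CMt : ℕ := Nat.sub (Nat.shiftLeft (nat_lit 1) (nat_lit 40960)) (nat_lit 1)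
/-- the read of a table -/
noncomputable def lk (t i : ℕ) : ℕ :=
  lkF2 (nat_lit 19) (nat_lit 1008) (nat_lit 19152) CMl (nat_lit 32) (nat_lit 612864) CMm (nat_lit 524287) t i
/-- the read of a vector -/
noncomputable def lkS (t i : ℕ) : ℕ :=
  lkF2 (nat_lit 5) (nat_lit 256) (nat_lit 1280) CMs (nat_lit 32) (nat_lit 40960) CMt (nat_lit 31) t i

/-- the tables -/
noncomputable def tabL : List ℕ := [tA0, tA1, tA2, tA3, tA4, tA5, tA6, tA7, tA8, tA9, tA10, tA11, tA12, tA13, tA14, tA15, tA16, tA17, tA18, tA19, tA20, tF, tT, tX2]

/-- the table of a number -/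
noncomputable def tab (j : ℕ) : ℕ := tabL.getD j (nat_lit 0)

/-- the number of tables -/
abbrev NT : ℕ := 24

/-- level 0 -/
noncomputable def lv0 : Lev := ⟨nat_lit 0, O0, sv0, [tA0, tA1, tA2, tA3, tA4, tA5, tA6, tA7, tA8, tA9, tA10, tA11, tA12, tA13, tA14, tA15, tA16, tA17, tA18, tA19, tA20]⟩
/-- level 1 -/
noncomputable def lv1 : Lev := ⟨nat_lit 109129, O1, sv1, [tA0, tA2, tA3, tA4, tA5, tA6, tA7, tA8, tA9, tA10, tA11, tA12, tA13, tA14, tA15, tA16, tA17, tA18, tA19, tA20]⟩
/-- level 2 -/
noncomputable def lv2 : Lev := ⟨nat_lit 181265, O2, sv2, [tA12, tA13, tA14, tA15, tA16, tA17, tA18, tA19, tA20]⟩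
/-- level 3 -/
noncomputable def lv3 : Lev := ⟨nat_lit 102687, O3, sv3, [tA14, tA15, tA16, tA17, tA18, tA19, tA20]⟩
/-- level 4 -/
noncomputable def lv4 : Lev := ⟨nat_lit 62908, O4, sv4, [tA17, tA18, tA19, tA20]⟩
/-- the levels -/
noncomputable def Ls : List Lev := [lv0, lv1, lv2, lv3, lv4]
/-- the base -/
def base : List ℕ := [nat_lit 0, nat_lit 109129, nat_lit 181265, nat_lit 102687, nat_lit 62908]

/-- the word of a table -/
def wTabL : List (List (ℕ × Bool)) := [
  [(0, true)],
  [(1, true)],
  [(2, true)],
  [(3, true)],
  [(4, true)],
  [(5, true)],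
  [(6, true)],
  [(7, true)],
  [(8, true)],
  [(9, true)],
  [(10, true)],
  [(11, true)],
  [(12, true)],
  [(13, true)],
  [(14, true)],
  [(15, true)],
  [(16, true)],
  [(17, true)],
  [(18, true)],
  [(19, true)],
  [(20, true)],
  [(1, true), (0, true), (2, true), (1, true), (3, true), (4, true), (5, true), (6, true), (7, true), (8, true), (9, true), (10, true), (5, true), (4, true), (3, true), (6, true), (5, true), (7, true), (6, true), (10, true), (11, true), (10, true), (5, true), (4, true), (3, true), (6, true), (5, true), (7, true), (8, true), (7, true), (10, true), (8, true), (4, true), (8, true), (9, true), (1, true), (0, true), (8, true), (2, true), (5, true), (8, true), (3, true), (6, true), (11, true), (6, true), (4, true), (2, true), (10, true), (4, true), (10, true), (0, true), (6, true), (8, true), (10, true), (7, true), (2, true), (4, true), (5, true), (8, true), (9, true), (1, true), (2, true), (8, true), (11, true), (10, true), (6, true), (9, true), (5, true), (0, true), (11, true), (8, true), (7, true), (5, true), (6, true), (3, true), (4, true), (5, true), (10,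 true), (11, true), (10, true), (6, true), (7, true), (5, true), (6, true), (3, true), (4, true), (5, true), (10, true), (9, true), (8, true), (7, true), (6, true), (5, true), (4, true), (3, true), (1, true), (2, true), (0, true), (1, true), (1, true), (0, true), (2, true), (1, true), (3, true), (4, true), (5, true), (6, true), (7, true), (8, true), (9, true), (10, true), (5, true), (4, true), (3, true), (6, true), (5, true), (7, true), (6, true), (10, true), (11, true), (10, true), (5, true), (4, true), (3, true), (6, true), (5, true), (7, true), (8, true), (7, true), (10, true), (8, true), (4, true), (8, true), (9, true), (1, true), (0, true), (8, true), (2, true), (5, true), (8, true), (3, true), (6, true), (11, true), (6, true), (4, true), (2, true), (10, true), (4, true), (10, true), (0, true), (6, true), (8, true), (10, true), (7, true), (2, true), (4, true), (5, true), (8, true), (9, true), (1, true), (2, true), (8, true), (11, true), (10, true), (6, true), (9, true), (5, true), (0, true), (11, true), (8, true), (7, true), (5, true), (6, true), (3, true), (4, true), (5, true), (10,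 true), (11, true), (10, true), (6, true), (7, true), (5, true), (6, true), (3, true), (4, true), (5, true), (10, true), (9, true), (8, true), (7, true), (6, true), (5, true), (4, true), (3, true), (1, true), (2, true), (0, true), (1, true)],
  [(1, true), (0, true), (2, true), (1, true), (3, true), (4, true), (5, true), (6, true), (7, true), (8, true), (9, true), (10, true), (5, true), (4, true), (3, true), (6, true), (5, true), (7, true), (6, true), (10, true), (11, true), (10, true), (5, true), (4, true), (3, true), (6, true), (5, true), (7, true), (8, true), (7, true), (10, true), (8, true), (4, true), (8, true), (9, true), (1, true), (0, true), (8, true), (2, true), (5, true), (8, true), (3, true), (6, true), (11, true), (6, true), (4, true), (2, true), (10, true), (4, true), (10, true), (0, true), (6, true), (8, true), (10, true), (7, true), (2, true), (4, true), (5, true), (8, true), (9, true), (1, true), (2, true), (8, true), (11, true), (10, true), (6, true), (9, true), (5, true), (0, true), (11, true), (8, true), (7, true), (5, true), (6, true), (3, true), (4, true), (5, true),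 (10, true), (11, true), (10, true), (6, true), (7, true), (5, true), (6, true), (3, true), (4, true), (5, true), (10, true), (9, true), (8, true), (7, true), (6, true), (5, true), (4, true), (3, true), (1, true), (2, true), (0, true), (1, true)],
  [(17, true), (18, true), (17, true), (18, true), (19, true), (20, true), (14, true), (17, true), (15, true), (14, true), (16, true), (17, true), (14, true), (12, true), (20, true), (12, true), (14, true), (20, true), (19, true), (0, true), (5, true), (8, true), (18, true), (18, true), (2, true), (1, true), (12, true), (18, true), (9, true), (15, true), (10, true)]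
]

/-- the word of a table -/
def wTab (j : ℕ) : List (ℕ × Bool) := wTabL.getD j []

/-- short product, as numbers of tables -/
def iX : List ℕ := [20, 17, 19, 19, 20, 18, 14, 17, 18, 18, 19, 16, 20, 13, 19, 19, 13, 13, 0, 3, 2, 16, 4, 1, 0, 20, 9, 13, 10]
/-- short product, as numbers of tables -/
def iXi : List ℕ := [18, 17, 18, 18, 20, 17, 20, 14, 16, 17, 16, 15, 18, 13, 16, 16, 16, 12, 3, 18, 15, 7, 8, 1, 15, 10, 20, 11, 14]
/-- short product, as numbers of tables -/
def iY : List ℕ := [20, 19, 17, 20, 20, 15, 18, 16, 19, 18, 19, 12, 14, 12, 17, 15, 18, 12, 7, 15, 9, 12, 7, 1, 2, 14, 4, 20, 7]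
/-- short product, as numbers of tables -/
def iYi : List ℕ := [20, 19, 18, 17, 15, 16, 15, 14, 18, 19, 12, 12, 17, 20, 13, 19, 16, 3, 9, 20, 3, 2, 1, 0, 20, 17, 5, 14]
/-- short product, as numbers of tables -/
def iC : List ℕ := [17, 18, 20, 17, 18, 12, 20, 15, 20, 12, 13, 5, 6, 7, 16, 17, 1, 14, 5, 17, 5]
/-- short product, as numbers of tables -/
def iCi : List ℕ := [19, 20, 17, 18, 17, 14, 15, 16, 14, 14, 18, 18, 12, 12, 15, 18, 18, 15, 8, 18, 7, 9, 19, 1, 12, 12, 15, 15, 15]
/-- short product, as numbers of tables -/
def iF : List ℕ := [20, 19, 18, 20, 18, 20, 14, 19, 15, 18, 17, 18, 13, 15, 14, 13, 14, 15, 0, 5, 8, 18, 18, 2, 1, 15, 3, 19, 3]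
/-- short product, as numbers of tables -/
def iFi : List ℕ := [18, 18, 19, 20, 17, 18, 15, 19, 15, 14, 15, 18, 12, 17, 13, 14, 12, 16, 13, 0, 9, 12, 13, 10, 1, 19, 12, 11, 20, 7]
/-- the short products -/
noncomputable def sX : List ℕ := iX.map tab
/-- the short products -/
noncomputable def sY : List ℕ := iY.map tab
/-- the short products -/
noncomputable def sF : List ℕ := [tF]

/-- the relators of the frame -/
def Rs : List (List ℕ) := [[2, 2, 2], [0, 1, 1, 1, 1, 1, 1, 1, 1, 1, 1, 2, 0, 1, 1, 1, 1, 1, 1, 1, 1, 1, 1, 2, 0, 1, 1, 1, 1, 1, 1, 1, 1, 1, 1, 2, 0, 1, 1, 1, 1, 1, 1, 1, 1, 1, 1, 2, 0, 1, 1, 1, 1, 1, 1, 1, 1, 1, 1, 2, 0, 1, 1, 1, 1, 1, 1, 1, 1, 1, 1, 2, 0, 1, 1, 1, 1, 1, 1, 1, 1, 1, 1, 2, 0, 1, 1, 1, 1, 1, 1, 1, 1, 1, 1, 2, 0, 1, 1, 1, 1, 1, 1, 1, 1, 1, 1, 2, 0, 1, 1, 1, 1, 1, 1, 1, 1, 1, 1, 2, 0, 1, 1, 1, 1, 1, 1, 1, 1, 1, 1, 2]]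

/-- the test for the centralizer of `x₂` -/
noncomputable def testX : List ℕ → Bool := testCent lk base tX2 (nat_lit 29)
/-- the test for the centralizer of `F` -/
noncomputable def testF : List ℕ → Bool := testFrameT lk base tF sX sF sY Rs tT (nat_lit 28)
/-- one image of the first point, for `x₂` -/
noncomputable def pX : ℕ → Bool := srchL lk lkS lkS (nat_lit 10) (nat_lit 306936) (nat_lit 5) Ls tX2 labX tX2 (nat_lit 29) testX
/-- one image of the first point, for `F` -/
noncomputable def pF : ℕ → Bool := srchL lk lkS lkS (nat_lit 10) (nat_lit 306936) (nat_lit 5) Ls tF labT tT (nat_lit 28) testF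

end Cfsg.Agent.Lib.FiO
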