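import Mathlib
import Cfsg.Agent.Lib.FiO.Lk

set_option autoImplicit false
set_option maxRecDepth 100000
set_option Elab.async false
set_option linter.all false

namespace Cfsg.Agent.Lib.FiO

open Cfsg.Spor Cfsg.Agent.Lib.OutStrip Cfsg.Agent.Lib.TcFacts Cfsg.Agent.Lib.TcBits Cfsg.Agent.Lib.TcChain Cfsg.Agent.Lib.TcPres
open Cfsg.Agent.TcData.Fi24
open Cfsg.Agent.TcData.Fi24.I306936 (pr Phi hR hv)

/-- constant -/
def MULl : ℕ := nat_lit 0x40001000040001000040001000040001000040001000040001000040001000040001000040001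
/-- constant -/
def MSKl : ℕ := nat_lit 0x800010000200004000080001000020000400008000100002000040000800010000200004000080001
/-- constant -/
def CSl : ℕ := nat_lit 0xffffffffffffffffffffffffffffffffffffffffffffffffffffffffffffffffffffffffffffffffffffffffffffffffffffffffffffffffffffffffffffffffffffffffffffffffffffffffffffffffffffffffffffffffffffffffffffffffffffffffffffffffffffffffffffffffffffffffffffffffffffffffffff
/-- the check of a table -/
noncomputable def chk (w : List (ℕ × Bool)) (T : ℕ) : Bool :=
  chkT (nat_lit 19) (nat_lit 18) (nat_lit 1008) (nat_lit 56) (nat_lit 6) (nat_lit 305) (nat_lit 9) MULl MSKl (nat_lit 262143) CMl CSl (nat_lit 5) (nat_lit 19) (sgnProg pL) w T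
/-- the check of a plane of a table -/
noncomputable def chkOne (w : List (ℕ × Bool)) (T p : ℕ) : Bool :=
  chkPl (nat_lit 19) (nat_lit 18) (nat_lit 1008) (nat_lit 56) (nat_lit 6) (nat_lit 305) (nat_lit 9) MULl MSKl (nat_lit 262143) CMl CSl
    T (wordApply (sgnProg pL) w (slice (nat_lit 19) p)) p

end Cfsg.Agent.Lib.FiO
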