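import Mathlib
import Cfsg.Agent.Lib.FiO.ChkD

set_option autoImplicit false
set_option maxRecDepth 100000
set_option Elab.async false
set_option linter.all false

namespace Cfsg.Agent.Lib.FiO

open Cfsg.Spor Cfsg.Agent.Lib.OutStrip Cfsg.Agent.Lib.TcFacts Cfsg.Agent.Lib.TcBits Cfsg.Agent.Lib.TcChain Cfsg.Agent.Lib.TcPres
open Cfsg.Agent.TcData.Fi24
open Cfsg.Agent.TcData.Fi24.I306936 (pr Phi hR hv)

theorem c_tA17_0 : chkOne (wTab 17) tA17 0 = true := by decide +kernel

theorem c_tA17_1 : chkOne (wTab 17) tA17 1 = true := by decide +kernel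

theorem c_tA17_2 : chkOne (wTab 17) tA17 2 = true := by decide +kernel

theorem c_tA17_3 : chkOne (wTab 17) tA17 3 = true := by decide +kernel

theorem c_tA17_4 : chkOne (wTab 17) tA17 4 = true := by decide +kernel

theorem c_tA17_5 : chkOne (wTab 17) tA17 5 = true := by decide +kernel

theorem c_tA17_6 : chkOne (wTab 17) tA17 6 = true := by decide +kernel

theorem c_tA17_7 : chkOne (wTab 17) tA17 7 = true := by decide +kernel

theorem c_tA17_8 : chkOne (wTab 17) tA17 8 = true := by decide +kernel

theorem c_tA17_9 : chkOne (wTab 17) tA17 9 = true := by decide +kernel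

theorem c_tA17_10 : chkOne (wTab 17) tA17 10 = true := by decide +kernel

theorem c_tA17_11 : chkOne (wTab 17) tA17 11 = true := by decide +kernel

theorem c_tA17_12 : chkOne (wTab 17) tA17 12 = true := by decide +kernel

theorem c_tA17_13 : chkOne (wTab 17) tA17 13 = true := by decide +kernel

theorem c_tA17_14 : chkOne (wTab 17) tA17 14 = true := by decide +kernel

theorem c_tA17_15 : chkOne (wTab 17) tA17 15 = true := by decide +kernel

theorem c_tA17_16 : chkOne (wTab 17) tA17 16 = true := by decide +kernel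

theorem c_tA17_17 : chkOne (wTab 17) tA17 17 = true := by decide +kernel

theorem c_tA17_18 : chkOne (wTab 17) tA17 18 = true := by decide +kernel

theorem c_tA17 : ∀ p, p < 19 → chkOne (wTab 17) tA17 p = true := by
  intro p hp
  interval_cases p
  exacts [c_tA17_0, c_tA17_1, c_tA17_2, c_tA17_3, c_tA17_4, c_tA17_5, c_tA17_6, c_tA17_7, c_tA17_8, c_tA17_9, c_tA17_10, c_tA17_11, c_tA17_12, c_tA17_13, c_tA17_14, c_tA17_15, c_tA17_16, c_tA17_17, c_tA17_18]

theorem c_tA18_0 : chkOne (wTab 18) tA18 0 = true := by decide +kernel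

theorem c_tA18_1 : chkOne (wTab 18) tA18 1 = true := by decide +kernel

theorem c_tA18_2 : chkOne (wTab 18) tA18 2 = true := by decide +kernel

theorem c_tA18_3 : chkOne (wTab 18) tA18 3 = true := by decide +kernel

theorem c_tA18_4 : chkOne (wTab 18) tA18 4 = true := by decide +kernel

theorem c_tA18_5 : chkOne (wTab 18) tA18 5 = true := by decide +kernel

theorem c_tA18_6 : chkOne (wTab 18) tA18 6 = true := by decide +kernel

theorem c_tA18_7 : chkOne (wTab 18) tA18 7 = true := by decide +kernel

theorem c_tA18_8 : chkOne (wTab 18) tA18 8 = true := by decide +kernel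

theorem c_tA18_9 : chkOne (wTab 18) tA18 9 = true := by decide +kernel

theorem c_tA18_10 : chkOne (wTab 18) tA18 10 = true := by decide +kernel

theorem c_tA18_11 : chkOne (wTab 18) tA18 11 = true := by decide +kernel

theorem c_tA18_12 : chkOne (wTab 18) tA18 12 = true := by decide +kernel

theorem c_tA18_13 : chkOne (wTab 18) tA18 13 = true := by decide +kernel

theorem c_tA18_14 : chkOne (wTab 18) tA18 14 = true := by decide +kernel

theorem c_tA18_15 : chkOne (wTab 18) tA18 15 = true := by decide +kernel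

theorem c_tA18_16 : chkOne (wTab 18) tA18 16 = true := by decide +kernel

theorem c_tA18_17 : chkOne (wTab 18) tA18 17 = true := by decide +kernel

theorem c_tA18_18 : chkOne (wTab 18) tA18 18 = true := by decide +kernel

theorem c_tA18 : ∀ p, p < 19 → chkOne (wTab 18) tA18 p = true := by
  intro p hp
  interval_cases p
  exacts [c_tA18_0, c_tA18_1, c_tA18_2, c_tA18_3, c_tA18_4, c_tA18_5, c_tA18_6, c_tA18_7, c_tA18_8, c_tA18_9, c_tA18_10, c_tA18_11, c_tA18_12, c_tA18_13, c_tA18_14, c_tA18_15, c_tA18_16, c_tA18_17, c_tA18_18]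

end Cfsg.Agent.Lib.FiO
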