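import Mathlib
import Cfsg.Agent.Lib.FiO.ChkD

set_option autoImplicit false
set_option maxRecDepth 100000
set_option Elab.async false
set_option linter.all false

namespace Cfsg.Agent.Lib.FiO

open Cfsg.Spor Cfsg.Agent.Lib.OutStrip Cfsg.Agent.Lib.TcFacts Cfsg.Agent.Lib.TcBits Cfsg.Agent.Lib.TcChain Cfsg.Agent.Lib.TcPres
open Cfsg.Agent.TcData.Fi24
open Cfsg.Agent.TcData.Fi24.I306936 (pr Phi hR hv)

theorem c_tA19_0 : chkOne (wTab 19) tA19 0 = true := by decide +kernel

theorem c_tA19_1 : chkOne (wTab 19) tA19 1 = true := by decide +kernel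

theorem c_tA19_2 : chkOne (wTab 19) tA19 2 = true := by decide +kernel

theorem c_tA19_3 : chkOne (wTab 19) tA19 3 = true := by decide +kernel

theorem c_tA19_4 : chkOne (wTab 19) tA19 4 = true := by decide +kernel

theorem c_tA19_5 : chkOne (wTab 19) tA19 5 = true := by decide +kernel

theorem c_tA19_6 : chkOne (wTab 19) tA19 6 = true := by decide +kernel

theorem c_tA19_7 : chkOne (wTab 19) tA19 7 = true := by decide +kernel

theorem c_tA19_8 : chkOne (wTab 19) tA19 8 = true := by decide +kernel

theorem c_tA19_9 : chkOne (wTab 19) tA19 9 = true := by decide +kernel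

theorem c_tA19_10 : chkOne (wTab 19) tA19 10 = true := by decide +kernel

theorem c_tA19_11 : chkOne (wTab 19) tA19 11 = true := by decide +kernel

theorem c_tA19_12 : chkOne (wTab 19) tA19 12 = true := by decide +kernel

theorem c_tA19_13 : chkOne (wTab 19) tA19 13 = true := by decide +kernel

theorem c_tA19_14 : chkOne (wTab 19) tA19 14 = true := by decide +kernel

theorem c_tA19_15 : chkOne (wTab 19) tA19 15 = true := by decide +kernel

theorem c_tA19_16 : chkOne (wTab 19) tA19 16 = true := by decide +kernel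

theorem c_tA19_17 : chkOne (wTab 19) tA19 17 = true := by decide +kernel

theorem c_tA19_18 : chkOne (wTab 19) tA19 18 = true := by decide +kernel

theorem c_tA19 : ∀ p, p < 19 → chkOne (wTab 19) tA19 p = true := by
  intro p hp
  interval_cases p
  exacts [c_tA19_0, c_tA19_1, c_tA19_2, c_tA19_3, c_tA19_4, c_tA19_5, c_tA19_6, c_tA19_7, c_tA19_8, c_tA19_9, c_tA19_10, c_tA19_11, c_tA19_12, c_tA19_13, c_tA19_14, c_tA19_15, c_tA19_16, c_tA19_17, c_tA19_18]

theorem c_tA20_0 : chkOne (wTab 20) tA20 0 = true := by decide +kernel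

theorem c_tA20_1 : chkOne (wTab 20) tA20 1 = true := by decide +kernel

theorem c_tA20_2 : chkOne (wTab 20) tA20 2 = true := by decide +kernel

theorem c_tA20_3 : chkOne (wTab 20) tA20 3 = true := by decide +kernel

theorem c_tA20_4 : chkOne (wTab 20) tA20 4 = true := by decide +kernel

theorem c_tA20_5 : chkOne (wTab 20) tA20 5 = true := by decide +kernel

theorem c_tA20_6 : chkOne (wTab 20) tA20 6 = true := by decide +kernel

theorem c_tA20_7 : chkOne (wTab 20) tA20 7 = true := by decide +kernel

theorem c_tA20_8 : chkOne (wTab 20) tA20 8 = true := by decide +kernel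

theorem c_tA20_9 : chkOne (wTab 20) tA20 9 = true := by decide +kernel

theorem c_tA20_10 : chkOne (wTab 20) tA20 10 = true := by decide +kernel

theorem c_tA20_11 : chkOne (wTab 20) tA20 11 = true := by decide +kernel

theorem c_tA20_12 : chkOne (wTab 20) tA20 12 = true := by decide +kernel

theorem c_tA20_13 : chkOne (wTab 20) tA20 13 = true := by decide +kernel

theorem c_tA20_14 : chkOne (wTab 20) tA20 14 = true := by decide +kernel

theorem c_tA20_15 : chkOne (wTab 20) tA20 15 = true := by decide +kernel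

theorem c_tA20_16 : chkOne (wTab 20) tA20 16 = true := by decide +kernel

theorem c_tA20_17 : chkOne (wTab 20) tA20 17 = true := by decide +kernel

theorem c_tA20_18 : chkOne (wTab 20) tA20 18 = true := by decide +kernel

theorem c_tA20 : ∀ p, p < 19 → chkOne (wTab 20) tA20 p = true := by
  intro p hp
  interval_cases p
  exacts [c_tA20_0, c_tA20_1, c_tA20_2, c_tA20_3, c_tA20_4, c_tA20_5, c_tA20_6, c_tA20_7, c_tA20_8, c_tA20_9, c_tA20_10, c_tA20_11, c_tA20_12, c_tA20_13, c_tA20_14, c_tA20_15, c_tA20_16, c_tA20_17, c_tA20_18]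

end Cfsg.Agent.Lib.FiO
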