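import Mathlib
import Cfsg.Agent.Lib.FiO.ChkD

set_option autoImplicit false
set_option maxRecDepth 100000
set_option Elab.async false
set_option linter.all false

namespace Cfsg.Agent.Lib.FiO

open Cfsg.Spor Cfsg.Agent.Lib.OutStrip Cfsg.Agent.Lib.TcFacts Cfsg.Agent.Lib.TcBits Cfsg.Agent.Lib.TcChain Cfsg.Agent.Lib.TcPres
open Cfsg.Agent.TcData.Fi24
open Cfsg.Agent.TcData.Fi24.I306936 (pr Phi hR hv)

theorem c_tF_0 : chkOne (wTab 21) tF 0 = true := by decide +kernel

theorem c_tF_1 : chkOne (wTab 21) tF 1 = true := by decide +kernel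

theorem c_tF_2 : chkOne (wTab 21) tF 2 = true := by decide +kernel

theorem c_tF_3 : chkOne (wTab 21) tF 3 = true := by decide +kernel

theorem c_tF_4 : chkOne (wTab 21) tF 4 = true := by decide +kernel

theorem c_tF_5 : chkOne (wTab 21) tF 5 = true := by decide +kernel

theorem c_tF_6 : chkOne (wTab 21) tF 6 = true := by decide +kernel

theorem c_tF_7 : chkOne (wTab 21) tF 7 = true := by decide +kernel

theorem c_tF_8 : chkOne (wTab 21) tF 8 = true := by decide +kernel

theorem c_tF_9 : chkOne (wTab 21) tF 9 = true := by decide +kernel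

theorem c_tF_10 : chkOne (wTab 21) tF 10 = true := by decide +kernel

theorem c_tF_11 : chkOne (wTab 21) tF 11 = true := by decide +kernel

theorem c_tF_12 : chkOne (wTab 21) tF 12 = true := by decide +kernel

theorem c_tF_13 : chkOne (wTab 21) tF 13 = true := by decide +kernel

theorem c_tF_14 : chkOne (wTab 21) tF 14 = true := by decide +kernel

theorem c_tF_15 : chkOne (wTab 21) tF 15 = true := by decide +kernel

theorem c_tF_16 : chkOne (wTab 21) tF 16 = true := by decide +kernel

theorem c_tF_17 : chkOne (wTab 21) tF 17 = true := by decide +kernel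

theorem c_tF_18 : chkOne (wTab 21) tF 18 = true := by decide +kernel

theorem c_tF : ∀ p, p < 19 → chkOne (wTab 21) tF p = true := by
  intro p hp
  interval_cases p
  exacts [c_tF_0, c_tF_1, c_tF_2, c_tF_3, c_tF_4, c_tF_5, c_tF_6, c_tF_7, c_tF_8, c_tF_9, c_tF_10, c_tF_11, c_tF_12, c_tF_13, c_tF_14, c_tF_15, c_tF_16, c_tF_17, c_tF_18]

theorem c_tT_0 : chkOne (wTab 22) tT 0 = true := by decide +kernel

theorem c_tT_1 : chkOne (wTab 22) tT 1 = true := by decide +kernel

theorem c_tT_2 : chkOne (wTab 22) tT 2 = true := by decide +kernel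

theorem c_tT_3 : chkOne (wTab 22) tT 3 = true := by decide +kernel

theorem c_tT_4 : chkOne (wTab 22) tT 4 = true := by decide +kernel

theorem c_tT_5 : chkOne (wTab 22) tT 5 = true := by decide +kernel

theorem c_tT_6 : chkOne (wTab 22) tT 6 = true := by decide +kernel

theorem c_tT_7 : chkOne (wTab 22) tT 7 = true := by decide +kernel

theorem c_tT_8 : chkOne (wTab 22) tT 8 = true := by decide +kernel

theorem c_tT_9 : chkOne (wTab 22) tT 9 = true := by decide +kernel

theorem c_tT_10 : chkOne (wTab 22) tT 10 = true := by decide +kernel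

theorem c_tT_11 : chkOne (wTab 22) tT 11 = true := by decide +kernel

theorem c_tT_12 : chkOne (wTab 22) tT 12 = true := by decide +kernel

theorem c_tT_13 : chkOne (wTab 22) tT 13 = true := by decide +kernel

theorem c_tT_14 : chkOne (wTab 22) tT 14 = true := by decide +kernel

theorem c_tT_15 : chkOne (wTab 22) tT 15 = true := by decide +kernel

theorem c_tT_16 : chkOne (wTab 22) tT 16 = true := by decide +kernel

theorem c_tT_17 : chkOne (wTab 22) tT 17 = true := by decide +kernel

theorem c_tT_18 : chkOne (wTab 22) tT 18 = true := by decide +kernel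

theorem c_tT : ∀ p, p < 19 → chkOne (wTab 22) tT p = true := by
  intro p hp
  interval_cases p
  exacts [c_tT_0, c_tT_1, c_tT_2, c_tT_3, c_tT_4, c_tT_5, c_tT_6, c_tT_7, c_tT_8, c_tT_9, c_tT_10, c_tT_11, c_tT_12, c_tT_13, c_tT_14, c_tT_15, c_tT_16, c_tT_17, c_tT_18]

end Cfsg.Agent.Lib.FiO
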