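import Mathlib
import Cfsg.Agent.Lib.FiO.ChkD

set_option autoImplicit false
set_option maxRecDepth 100000
set_option Elab.async false
set_option linter.all false

namespace Cfsg.Agent.Lib.FiO

open Cfsg.Spor Cfsg.Agent.Lib.OutStrip Cfsg.Agent.Lib.TcFacts Cfsg.Agent.Lib.TcBits Cfsg.Agent.Lib.TcChain Cfsg.Agent.Lib.TcPres
open Cfsg.Agent.TcData.Fi24
open Cfsg.Agent.TcData.Fi24.I306936 (pr Phi hR hv)

theorem c_tX2_0 : chkOne (wTab 23) tX2 0 = true := by decide +kernel

theorem c_tX2_1 : chkOne (wTab 23) tX2 1 = true := by decide +kernel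

theorem c_tX2_2 : chkOne (wTab 23) tX2 2 = true := by decide +kernel

theorem c_tX2_3 : chkOne (wTab 23) tX2 3 = true := by decide +kernel

theorem c_tX2_4 : chkOne (wTab 23) tX2 4 = true := by decide +kernel

theorem c_tX2_5 : chkOne (wTab 23) tX2 5 = true := by decide +kernel

theorem c_tX2_6 : chkOne (wTab 23) tX2 6 = true := by decide +kernel

theorem c_tX2_7 : chkOne (wTab 23) tX2 7 = true := by decide +kernel

theorem c_tX2_8 : chkOne (wTab 23) tX2 8 = true := by decide +kernel

theorem c_tX2_9 : chkOne (wTab 23) tX2 9 = true := by decide +kernel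

theorem c_tX2_10 : chkOne (wTab 23) tX2 10 = true := by decide +kernel

theorem c_tX2_11 : chkOne (wTab 23) tX2 11 = true := by decide +kernel

theorem c_tX2_12 : chkOne (wTab 23) tX2 12 = true := by decide +kernel

theorem c_tX2_13 : chkOne (wTab 23) tX2 13 = true := by decide +kernel

theorem c_tX2_14 : chkOne (wTab 23) tX2 14 = true := by decide +kernel

theorem c_tX2_15 : chkOne (wTab 23) tX2 15 = true := by decide +kernel

theorem c_tX2_16 : chkOne (wTab 23) tX2 16 = true := by decide +kernel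

theorem c_tX2_17 : chkOne (wTab 23) tX2 17 = true := by decide +kernel

theorem c_tX2_18 : chkOne (wTab 23) tX2 18 = true := by decide +kernel

theorem c_tX2 : ∀ p, p < 19 → chkOne (wTab 23) tX2 p = true := by
  intro p hp
  interval_cases p
  exacts [c_tX2_0, c_tX2_1, c_tX2_2, c_tX2_3, c_tX2_4, c_tX2_5, c_tX2_6, c_tX2_7, c_tX2_8, c_tX2_9, c_tX2_10, c_tX2_11, c_tX2_12, c_tX2_13, c_tX2_14, c_tX2_15, c_tX2_16, c_tX2_17, c_tX2_18]

end Cfsg.Agent.Lib.FiO
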