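import Mathlib
import Cfsg.Agent.Lib.FiO.Lk
import Cfsg.Agent.Lib.TcLevels

set_option autoImplicit false
set_option maxRecDepth 100000
set_option Elab.async false
set_option linter.all false

namespace Cfsg.Agent.Lib.FiO

open Cfsg.Spor Cfsg.Agent.Lib.OutStrip Cfsg.Agent.Lib.TcFacts Cfsg.Agent.Lib.TcBits Cfsg.Agent.Lib.TcChain Cfsg.Agent.Lib.TcPres
open Cfsg.Agent.TcData.Fi24
open Cfsg.Agent.TcData.Fi24.I306936 (pr Phi hR hv)

theorem hW0 : ∀ t ∈ S1, ∀ a ∈ W t, a.1 ∈ S0 := by decide +kernel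

theorem heq0_0 : ∀ j, j < 19 → wordApply (sgnProg pL) ((0, false) :: W 0) (slice 19 j) = slice 19 j := by decide +kernel

theorem heq0_2 : ∀ j, j < 19 → wordApply (sgnProg pL) ((2, false) :: W 2) (slice 19 j) = slice 19 j := by decide +kernel

theorem heq0_3 : ∀ j, j < 19 → wordApply (sgnProg pL) ((3, false) :: W 3) (slice 19 j) = slice 19 j := by decide +kernel

theorem heq0_4 : ∀ j, j < 19 → wordApply (sgnProg pL) ((4, false) :: W 4) (slice 19 j) = slice 19 j := by decide +kernel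

theorem heq0_5 : ∀ j, j < 19 → wordApply (sgnProg pL) ((5, false) :: W 5) (slice 19 j) = slice 19 j := by decide +kernel

theorem heq0_6 : ∀ j, j < 19 → wordApply (sgnProg pL) ((6, false) :: W 6) (slice 19 j) = slice 19 j := by decide +kernel

theorem heq0_7 : ∀ j, j < 19 → wordApply (sgnProg pL) ((7, false) :: W 7) (slice 19 j) = slice 19 j := by decide +kernel

theorem heq0_8 : ∀ j, j < 19 → wordApply (sgnProg pL) ((8, false) :: W 8) (slice 19 j) = slice 19 j := by decide +kernel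

theorem heq0_9 : ∀ j, j < 19 → wordApply (sgnProg pL) ((9, false) :: W 9) (slice 19 j) = slice 19 j := by decide +kernel

theorem heq0_10 : ∀ j, j < 19 → wordApply (sgnProg pL) ((10, false) :: W 10) (slice 19 j) = slice 19 j := by decide +kernel

theorem heq0_11 : ∀ j, j < 19 → wordApply (sgnProg pL) ((11, false) :: W 11) (slice 19 j) = slice 19 j := by decide +kernel

theorem heq0 : ∀ t ∈ S1, ∀ j, j < 19 →
    wordApply (sgnProg pL) ((t, false) :: W t) (slice 19 j) = slice 19 j := by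
  intro t ht
  simp only [S1, List.mem_cons, List.not_mem_nil, or_false] at ht
  rcases ht with rfl|rfl|rfl|rfl|rfl|rfl|rfl|rfl|rfl|rfl|rfl
  exacts [heq0_0, heq0_2, heq0_3, heq0_4, heq0_5, heq0_6, heq0_7, heq0_8, heq0_9, heq0_10, heq0_11]

theorem hfx0 : ∀ t ∈ S1, progApply (pL t) (2 ^ 0) = 2 ^ 0 := by decide +kernel

theorem hgrow0 : growLN pL S0 9 (2 ^ 0) = O0 := by decide +kernel

theorem hc0 : sumRange O0.testBit 19 0 = 306936 := by
  rw [Cfsg.Agent.Lib.TcLevels.sumRange_eq_popC]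
  decide +kernel

theorem hm0 : ∀ i ∈ S0, progApply (pL i) O0 = O0 := by decide +kernel

theorem hb0 : O0.testBit 0 = true := by decide +kernel

end Cfsg.Agent.Lib.FiO
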