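import Mathlib
import Cfsg.Agent.Lib.FiO.Lk
import Cfsg.Agent.Lib.TcLevels

set_option autoImplicit false
set_option maxRecDepth 100000
set_option Elab.async false
set_option linter.all false

namespace Cfsg.Agent.Lib.FiO

open Cfsg.Spor Cfsg.Agent.Lib.OutStrip Cfsg.Agent.Lib.TcFacts Cfsg.Agent.Lib.TcBits Cfsg.Agent.Lib.TcChain Cfsg.Agent.Lib.TcPres
open Cfsg.Agent.TcData.Fi24
open Cfsg.Agent.TcData.Fi24.I306936 (pr Phi hR hv)

theorem hW1 : ∀ t ∈ S2, ∀ a ∈ W t, a.1 ∈ S1 := by decide +kernel

theorem heq1_12_0 : wordApply (sgnProg pL) ((12, false) :: W 12) (slice 19 0) = slice 19 0 := by decide +kernel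

theorem heq1_12_1 : wordApply (sgnProg pL) ((12, false) :: W 12) (slice 19 1) = slice 19 1 := by decide +kernel

theorem heq1_12_2 : wordApply (sgnProg pL) ((12, false) :: W 12) (slice 19 2) = slice 19 2 := by decide +kernel

theorem heq1_12_3 : wordApply (sgnProg pL) ((12, false) :: W 12) (slice 19 3) = slice 19 3 := by decide +kernel

theorem heq1_12_4 : wordApply (sgnProg pL) ((12, false) :: W 12) (slice 19 4) = slice 19 4 := by decide +kernel

theorem heq1_12_5 : wordApply (sgnProg pL) ((12, false) :: W 12) (slice 19 5) = slice 19 5 := by decide +kernel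

theorem heq1_12_6 : wordApply (sgnProg pL) ((12, false) :: W 12) (slice 19 6) = slice 19 6 := by decide +kernel

theorem heq1_12_7 : wordApply (sgnProg pL) ((12, false) :: W 12) (slice 19 7) = slice 19 7 := by decide +kernel

theorem heq1_12_8 : wordApply (sgnProg pL) ((12, false) :: W 12) (slice 19 8) = slice 19 8 := by decide +kernel

theorem heq1_12_9 : wordApply (sgnProg pL) ((12, false) :: W 12) (slice 19 9) = slice 19 9 := by decide +kernel

theorem heq1_12_10 : wordApply (sgnProg pL) ((12, false) :: W 12) (slice 19 10) = slice 19 10 := by decide +kernel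

theorem heq1_12_11 : wordApply (sgnProg pL) ((12, false) :: W 12) (slice 19 11) = slice 19 11 := by decide +kernel

theorem heq1_12_12 : wordApply (sgnProg pL) ((12, false) :: W 12) (slice 19 12) = slice 19 12 := by decide +kernel

theorem heq1_12_13 : wordApply (sgnProg pL) ((12, false) :: W 12) (slice 19 13) = slice 19 13 := by decide +kernel

theorem heq1_12_14 : wordApply (sgnProg pL) ((12, false) :: W 12) (slice 19 14) = slice 19 14 := by decide +kernel

theorem heq1_12_15 : wordApply (sgnProg pL) ((12, false) :: W 12) (slice 19 15) = slice 19 15 := by decide +kernel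

theorem heq1_12_16 : wordApply (sgnProg pL) ((12, false) :: W 12) (slice 19 16) = slice 19 16 := by decide +kernel

theorem heq1_12_17 : wordApply (sgnProg pL) ((12, false) :: W 12) (slice 19 17) = slice 19 17 := by decide +kernel

theorem heq1_12_18 : wordApply (sgnProg pL) ((12, false) :: W 12) (slice 19 18) = slice 19 18 := by decide +kernel

theorem heq1_12 : ∀ j, j < 19 → wordApply (sgnProg pL) ((12, false) :: W 12) (slice 19 j) = slice 19 j := by
  intro j hj
  interval_cases j
  exacts [heq1_12_0, heq1_12_1, heq1_12_2, heq1_12_3, heq1_12_4, heq1_12_5, heq1_12_6, heq1_12_7, heq1_12_8, heq1_12_9, heq1_12_10, heq1_12_11, heq1_12_12, heq1_12_13, heq1_12_14, heq1_12_15, heq1_12_16, heq1_12_17, heq1_12_18]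

theorem heq1_13_0 : wordApply (sgnProg pL) ((13, false) :: W 13) (slice 19 0) = slice 19 0 := by decide +kernel

theorem heq1_13_1 : wordApply (sgnProg pL) ((13, false) :: W 13) (slice 19 1) = slice 19 1 := by decide +kernel

theorem heq1_13_2 : wordApply (sgnProg pL) ((13, false) :: W 13) (slice 19 2) = slice 19 2 := by decide +kernel

theorem heq1_13_3 : wordApply (sgnProg pL) ((13, false) :: W 13) (slice 19 3) = slice 19 3 := by decide +kernel

theorem heq1_13_4 : wordApply (sgnProg pL) ((13, false) :: W 13) (slice 19 4) = slice 19 4 := by decide +kernel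

theorem heq1_13_5 : wordApply (sgnProg pL) ((13, false) :: W 13) (slice 19 5) = slice 19 5 := by decide +kernel

theorem heq1_13_6 : wordApply (sgnProg pL) ((13, false) :: W 13) (slice 19 6) = slice 19 6 := by decide +kernel

theorem heq1_13_7 : wordApply (sgnProg pL) ((13, false) :: W 13) (slice 19 7) = slice 19 7 := by decide +kernel

theorem heq1_13_8 : wordApply (sgnProg pL) ((13, false) :: W 13) (slice 19 8) = slice 19 8 := by decide +kernel

theorem heq1_13_9 : wordApply (sgnProg pL) ((13, false) :: W 13) (slice 19 9) = slice 19 9 := by decide +kernel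

theorem heq1_13_10 : wordApply (sgnProg pL) ((13, false) :: W 13) (slice 19 10) = slice 19 10 := by decide +kernel

theorem heq1_13_11 : wordApply (sgnProg pL) ((13, false) :: W 13) (slice 19 11) = slice 19 11 := by decide +kernel

theorem heq1_13_12 : wordApply (sgnProg pL) ((13, false) :: W 13) (slice 19 12) = slice 19 12 := by decide +kernel

theorem heq1_13_13 : wordApply (sgnProg pL) ((13, false) :: W 13) (slice 19 13) = slice 19 13 := by decide +kernel

theorem heq1_13_14 : wordApply (sgnProg pL) ((13, false) :: W 13) (slice 19 14) = slice 19 14 := by decide +kernel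

theorem heq1_13_15 : wordApply (sgnProg pL) ((13, false) :: W 13) (slice 19 15) = slice 19 15 := by decide +kernel

theorem heq1_13_16 : wordApply (sgnProg pL) ((13, false) :: W 13) (slice 19 16) = slice 19 16 := by decide +kernel

theorem heq1_13_17 : wordApply (sgnProg pL) ((13, false) :: W 13) (slice 19 17) = slice 19 17 := by decide +kernel

theorem heq1_13_18 : wordApply (sgnProg pL) ((13, false) :: W 13) (slice 19 18) = slice 19 18 := by decide +kernel

theorem heq1_13 : ∀ j, j < 19 → wordApply (sgnProg pL) ((13, false) :: W 13) (slice 19 j) = slice 19 j := by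
  intro j hj
  interval_cases j
  exacts [heq1_13_0, heq1_13_1, heq1_13_2, heq1_13_3, heq1_13_4, heq1_13_5, heq1_13_6, heq1_13_7, heq1_13_8, heq1_13_9, heq1_13_10, heq1_13_11, heq1_13_12, heq1_13_13, heq1_13_14, heq1_13_15, heq1_13_16, heq1_13_17, heq1_13_18]

theorem heq1 : ∀ t ∈ S2, ∀ j, j < 19 →
    wordApply (sgnProg pL) ((t, false) :: W t) (slice 19 j) = slice 19 j := by
  intro t ht
  simp only [S2, List.mem_cons, List.not_mem_nil, or_false] at ht
  rcases ht with rfl|rfl
  exacts [heq1_12, heq1_13]

theorem hfx1 : ∀ t ∈ S2, progApply (pL t) (2 ^ 109129) = 2 ^ 109129 := by decide +kernel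

theorem hgrow1 : growLN pL S1 10 (2 ^ 109129) = O1 := by decide +kernel

theorem hc1 : sumRange O1.testBit 19 0 = 275264 := by
  rw [Cfsg.Agent.Lib.TcLevels.sumRange_eq_popC]
  decide +kernel

theorem hm1 : ∀ i ∈ S1, progApply (pL i) O1 = O1 := by decide +kernel

theorem hb1 : O1.testBit 109129 = true := by decide +kernel

end Cfsg.Agent.Lib.FiO
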