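import Mathlib
import Cfsg.Agent.Lib.FiO.Lk
import Cfsg.Agent.Lib.TcLevels

set_option autoImplicit false
set_option maxRecDepth 100000
set_option Elab.async false
set_option linter.all false

namespace Cfsg.Agent.Lib.FiO

open Cfsg.Spor Cfsg.Agent.Lib.OutStrip Cfsg.Agent.Lib.TcFacts Cfsg.Agent.Lib.TcBits Cfsg.Agent.Lib.TcChain Cfsg.Agent.Lib.TcPres
open Cfsg.Agent.TcData.Fi24
open Cfsg.Agent.TcData.Fi24.I306936 (pr Phi hR hv)

theorem hW2 : ∀ t ∈ S3, ∀ a ∈ W t, a.1 ∈ S2 := by decide +kernel

theorem heq2_14_0 : wordApply (sgnProg pL) ((14, false) :: W 14) (slice 19 0) = slice 19 0 := by decide +kernel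

theorem heq2_14_1 : wordApply (sgnProg pL) ((14, false) :: W 14) (slice 19 1) = slice 19 1 := by decide +kernel

theorem heq2_14_2 : wordApply (sgnProg pL) ((14, false) :: W 14) (slice 19 2) = slice 19 2 := by decide +kernel

theorem heq2_14_3 : wordApply (sgnProg pL) ((14, false) :: W 14) (slice 19 3) = slice 19 3 := by decide +kernel

theorem heq2_14_4 : wordApply (sgnProg pL) ((14, false) :: W 14) (slice 19 4) = slice 19 4 := by decide +kernel

theorem heq2_14_5 : wordApply (sgnProg pL) ((14, false) :: W 14) (slice 19 5) = slice 19 5 := by decide +kernel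

theorem heq2_14_6 : wordApply (sgnProg pL) ((14, false) :: W 14) (slice 19 6) = slice 19 6 := by decide +kernel

theorem heq2_14_7 : wordApply (sgnProg pL) ((14, false) :: W 14) (slice 19 7) = slice 19 7 := by decide +kernel

theorem heq2_14_8 : wordApply (sgnProg pL) ((14, false) :: W 14) (slice 19 8) = slice 19 8 := by decide +kernel

theorem heq2_14_9 : wordApply (sgnProg pL) ((14, false) :: W 14) (slice 19 9) = slice 19 9 := by decide +kernel

theorem heq2_14_10 : wordApply (sgnProg pL) ((14, false) :: W 14) (slice 19 10) = slice 19 10 := by decide +kernel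

theorem heq2_14_11 : wordApply (sgnProg pL) ((14, false) :: W 14) (slice 19 11) = slice 19 11 := by decide +kernel

theorem heq2_14_12 : wordApply (sgnProg pL) ((14, false) :: W 14) (slice 19 12) = slice 19 12 := by decide +kernel

theorem heq2_14_13 : wordApply (sgnProg pL) ((14, false) :: W 14) (slice 19 13) = slice 19 13 := by decide +kernel

theorem heq2_14_14 : wordApply (sgnProg pL) ((14, false) :: W 14) (slice 19 14) = slice 19 14 := by decide +kernel

theorem heq2_14_15 : wordApply (sgnProg pL) ((14, false) :: W 14) (slice 19 15) = slice 19 15 := by decide +kernel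

theorem heq2_14_16 : wordApply (sgnProg pL) ((14, false) :: W 14) (slice 19 16) = slice 19 16 := by decide +kernel

theorem heq2_14_17 : wordApply (sgnProg pL) ((14, false) :: W 14) (slice 19 17) = slice 19 17 := by decide +kernel

theorem heq2_14_18 : wordApply (sgnProg pL) ((14, false) :: W 14) (slice 19 18) = slice 19 18 := by decide +kernel

theorem heq2_14 : ∀ j, j < 19 → wordApply (sgnProg pL) ((14, false) :: W 14) (slice 19 j) = slice 19 j := by
  intro j hj
  interval_cases j
  exacts [heq2_14_0, heq2_14_1, heq2_14_2, heq2_14_3, heq2_14_4, heq2_14_5, heq2_14_6, heq2_14_7, heq2_14_8, heq2_14_9, heq2_14_10, heq2_14_11, heq2_14_12, heq2_14_13, heq2_14_14, heq2_14_15, heq2_14_16, heq2_14_17, heq2_14_18]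

theorem heq2_15_0 : wordApply (sgnProg pL) ((15, false) :: W 15) (slice 19 0) = slice 19 0 := by decide +kernel

theorem heq2_15_1 : wordApply (sgnProg pL) ((15, false) :: W 15) (slice 19 1) = slice 19 1 := by decide +kernel

theorem heq2_15_2 : wordApply (sgnProg pL) ((15, false) :: W 15) (slice 19 2) = slice 19 2 := by decide +kernel

theorem heq2_15_3 : wordApply (sgnProg pL) ((15, false) :: W 15) (slice 19 3) = slice 19 3 := by decide +kernel

theorem heq2_15_4 : wordApply (sgnProg pL) ((15, false) :: W 15) (slice 19 4) = slice 19 4 := by decide +kernel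

theorem heq2_15_5 : wordApply (sgnProg pL) ((15, false) :: W 15) (slice 19 5) = slice 19 5 := by decide +kernel

theorem heq2_15_6 : wordApply (sgnProg pL) ((15, false) :: W 15) (slice 19 6) = slice 19 6 := by decide +kernel

theorem heq2_15_7 : wordApply (sgnProg pL) ((15, false) :: W 15) (slice 19 7) = slice 19 7 := by decide +kernel

theorem heq2_15_8 : wordApply (sgnProg pL) ((15, false) :: W 15) (slice 19 8) = slice 19 8 := by decide +kernel

theorem heq2_15_9 : wordApply (sgnProg pL) ((15, false) :: W 15) (slice 19 9) = slice 19 9 := by decide +kernel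

theorem heq2_15_10 : wordApply (sgnProg pL) ((15, false) :: W 15) (slice 19 10) = slice 19 10 := by decide +kernel

theorem heq2_15_11 : wordApply (sgnProg pL) ((15, false) :: W 15) (slice 19 11) = slice 19 11 := by decide +kernel

theorem heq2_15_12 : wordApply (sgnProg pL) ((15, false) :: W 15) (slice 19 12) = slice 19 12 := by decide +kernel

theorem heq2_15_13 : wordApply (sgnProg pL) ((15, false) :: W 15) (slice 19 13) = slice 19 13 := by decide +kernel

theorem heq2_15_14 : wordApply (sgnProg pL) ((15, false) :: W 15) (slice 19 14) = slice 19 14 := by decide +kernel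

theorem heq2_15_15 : wordApply (sgnProg pL) ((15, false) :: W 15) (slice 19 15) = slice 19 15 := by decide +kernel

theorem heq2_15_16 : wordApply (sgnProg pL) ((15, false) :: W 15) (slice 19 16) = slice 19 16 := by decide +kernel

theorem heq2_15_17 : wordApply (sgnProg pL) ((15, false) :: W 15) (slice 19 17) = slice 19 17 := by decide +kernel

theorem heq2_15_18 : wordApply (sgnProg pL) ((15, false) :: W 15) (slice 19 18) = slice 19 18 := by decide +kernel

theorem heq2_15 : ∀ j, j < 19 → wordApply (sgnProg pL) ((15, false) :: W 15) (slice 19 j) = slice 19 j := by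
  intro j hj
  interval_cases j
  exacts [heq2_15_0, heq2_15_1, heq2_15_2, heq2_15_3, heq2_15_4, heq2_15_5, heq2_15_6, heq2_15_7, heq2_15_8, heq2_15_9, heq2_15_10, heq2_15_11, heq2_15_12, heq2_15_13, heq2_15_14, heq2_15_15, heq2_15_16, heq2_15_17, heq2_15_18]

theorem heq2_16_0 : wordApply (sgnProg pL) ((16, false) :: W 16) (slice 19 0) = slice 19 0 := by decide +kernel

theorem heq2_16_1 : wordApply (sgnProg pL) ((16, false) :: W 16) (slice 19 1) = slice 19 1 := by decide +kernel

theorem heq2_16_2 : wordApply (sgnProg pL) ((16, false) :: W 16) (slice 19 2) = slice 19 2 := by decide +kernel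

theorem heq2_16_3 : wordApply (sgnProg pL) ((16, false) :: W 16) (slice 19 3) = slice 19 3 := by decide +kernel

theorem heq2_16_4 : wordApply (sgnProg pL) ((16, false) :: W 16) (slice 19 4) = slice 19 4 := by decide +kernel

theorem heq2_16_5 : wordApply (sgnProg pL) ((16, false) :: W 16) (slice 19 5) = slice 19 5 := by decide +kernel

theorem heq2_16_6 : wordApply (sgnProg pL) ((16, false) :: W 16) (slice 19 6) = slice 19 6 := by decide +kernel

theorem heq2_16_7 : wordApply (sgnProg pL) ((16, false) :: W 16) (slice 19 7) = slice 19 7 := by decide +kernel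

theorem heq2_16_8 : wordApply (sgnProg pL) ((16, false) :: W 16) (slice 19 8) = slice 19 8 := by decide +kernel

theorem heq2_16_9 : wordApply (sgnProg pL) ((16, false) :: W 16) (slice 19 9) = slice 19 9 := by decide +kernel

theorem heq2_16_10 : wordApply (sgnProg pL) ((16, false) :: W 16) (slice 19 10) = slice 19 10 := by decide +kernel

theorem heq2_16_11 : wordApply (sgnProg pL) ((16, false) :: W 16) (slice 19 11) = slice 19 11 := by decide +kernel

theorem heq2_16_12 : wordApply (sgnProg pL) ((16, false) :: W 16) (slice 19 12) = slice 19 12 := by decide +kernel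

theorem heq2_16_13 : wordApply (sgnProg pL) ((16, false) :: W 16) (slice 19 13) = slice 19 13 := by decide +kernel

theorem heq2_16_14 : wordApply (sgnProg pL) ((16, false) :: W 16) (slice 19 14) = slice 19 14 := by decide +kernel

theorem heq2_16_15 : wordApply (sgnProg pL) ((16, false) :: W 16) (slice 19 15) = slice 19 15 := by decide +kernel

theorem heq2_16_16 : wordApply (sgnProg pL) ((16, false) :: W 16) (slice 19 16) = slice 19 16 := by decide +kernel

theorem heq2_16_17 : wordApply (sgnProg pL) ((16, false) :: W 16) (slice 19 17) = slice 19 17 := by decide +kernel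

theorem heq2_16_18 : wordApply (sgnProg pL) ((16, false) :: W 16) (slice 19 18) = slice 19 18 := by decide +kernel

theorem heq2_16 : ∀ j, j < 19 → wordApply (sgnProg pL) ((16, false) :: W 16) (slice 19 j) = slice 19 j := by
  intro j hj
  interval_cases j
  exacts [heq2_16_0, heq2_16_1, heq2_16_2, heq2_16_3, heq2_16_4, heq2_16_5, heq2_16_6, heq2_16_7, heq2_16_8, heq2_16_9, heq2_16_10, heq2_16_11, heq2_16_12, heq2_16_13, heq2_16_14, heq2_16_15, heq2_16_16, heq2_16_17, heq2_16_18]

theorem heq2 : ∀ t ∈ S3, ∀ j, j < 19 →
    wordApply (sgnProg pL) ((t, false) :: W t) (slice 19 j) = slice 19 j := by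
  intro t ht
  simp only [S3, List.mem_cons, List.not_mem_nil, or_false] at ht
  rcases ht with rfl|rfl|rfl
  exacts [heq2_14, heq2_15, heq2_16]

theorem hfx2 : ∀ t ∈ S3, progApply (pL t) (2 ^ 181265) = 2 ^ 181265 := by decide +kernel

theorem hgrow2 : growLN pL S2 15 (2 ^ 181265) = O2 := by decide +kernel

theorem hc2 : sumRange O2.testBit 19 0 = 218400 := by
  rw [Cfsg.Agent.Lib.TcLevels.sumRange_eq_popC]
  decide +kernel

theorem hm2 : ∀ i ∈ S2, progApply (pL i) O2 = O2 := by decide +kernel

theorem hb2 : O2.testBit 181265 = true := by decide +kernel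

end Cfsg.Agent.Lib.FiO
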