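import Mathlib
import Cfsg.Agent.Lib.FiO.Lk
import Cfsg.Agent.Lib.TcLevels

set_option autoImplicit false
set_option maxRecDepth 100000
set_option Elab.async false
set_option linter.all false

namespace Cfsg.Agent.Lib.FiO

open Cfsg.Spor Cfsg.Agent.Lib.OutStrip Cfsg.Agent.Lib.TcFacts Cfsg.Agent.Lib.TcBits Cfsg.Agent.Lib.TcChain Cfsg.Agent.Lib.TcPres
open Cfsg.Agent.TcData.Fi24
open Cfsg.Agent.TcData.Fi24.I306936 (pr Phi hR hv)

theorem hW3 : ∀ t ∈ S4, ∀ a ∈ W t, a.1 ∈ S3 := by decide +kernel

theorem heq3_17_0 : wordApply (sgnProg pL) ((17, false) :: W 17) (slice 19 0) = slice 19 0 := by decide +kernel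

theorem heq3_17_1 : wordApply (sgnProg pL) ((17, false) :: W 17) (slice 19 1) = slice 19 1 := by decide +kernel

theorem heq3_17_2 : wordApply (sgnProg pL) ((17, false) :: W 17) (slice 19 2) = slice 19 2 := by decide +kernel

theorem heq3_17_3 : wordApply (sgnProg pL) ((17, false) :: W 17) (slice 19 3) = slice 19 3 := by decide +kernel

theorem heq3_17_4 : wordApply (sgnProg pL) ((17, false) :: W 17) (slice 19 4) = slice 19 4 := by decide +kernel

theorem heq3_17_5 : wordApply (sgnProg pL) ((17, false) :: W 17) (slice 19 5) = slice 19 5 := by decide +kernel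

theorem heq3_17_6 : wordApply (sgnProg pL) ((17, false) :: W 17) (slice 19 6) = slice 19 6 := by decide +kernel

theorem heq3_17_7 : wordApply (sgnProg pL) ((17, false) :: W 17) (slice 19 7) = slice 19 7 := by decide +kernel

theorem heq3_17_8 : wordApply (sgnProg pL) ((17, false) :: W 17) (slice 19 8) = slice 19 8 := by decide +kernel

theorem heq3_17_9 : wordApply (sgnProg pL) ((17, false) :: W 17) (slice 19 9) = slice 19 9 := by decide +kernel

theorem heq3_17_10 : wordApply (sgnProg pL) ((17, false) :: W 17) (slice 19 10) = slice 19 10 := by decide +kernel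

theorem heq3_17_11 : wordApply (sgnProg pL) ((17, false) :: W 17) (slice 19 11) = slice 19 11 := by decide +kernel

theorem heq3_17_12 : wordApply (sgnProg pL) ((17, false) :: W 17) (slice 19 12) = slice 19 12 := by decide +kernel

theorem heq3_17_13 : wordApply (sgnProg pL) ((17, false) :: W 17) (slice 19 13) = slice 19 13 := by decide +kernel

theorem heq3_17_14 : wordApply (sgnProg pL) ((17, false) :: W 17) (slice 19 14) = slice 19 14 := by decide +kernel

theorem heq3_17_15 : wordApply (sgnProg pL) ((17, false) :: W 17) (slice 19 15) = slice 19 15 := by decide +kernel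

theorem heq3_17_16 : wordApply (sgnProg pL) ((17, false) :: W 17) (slice 19 16) = slice 19 16 := by decide +kernel

theorem heq3_17_17 : wordApply (sgnProg pL) ((17, false) :: W 17) (slice 19 17) = slice 19 17 := by decide +kernel

theorem heq3_17_18 : wordApply (sgnProg pL) ((17, false) :: W 17) (slice 19 18) = slice 19 18 := by decide +kernel

theorem heq3_17 : ∀ j, j < 19 → wordApply (sgnProg pL) ((17, false) :: W 17) (slice 19 j) = slice 19 j := by
  intro j hj
  interval_cases j
  exacts [heq3_17_0, heq3_17_1, heq3_17_2, heq3_17_3, heq3_17_4, heq3_17_5, heq3_17_6, heq3_17_7, heq3_17_8, heq3_17_9, heq3_17_10, heq3_17_11, heq3_17_12, heq3_17_13, heq3_17_14, heq3_17_15, heq3_17_16, heq3_17_17, heq3_17_18]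

theorem heq3_18_0 : wordApply (sgnProg pL) ((18, false) :: W 18) (slice 19 0) = slice 19 0 := by decide +kernel

theorem heq3_18_1 : wordApply (sgnProg pL) ((18, false) :: W 18) (slice 19 1) = slice 19 1 := by decide +kernel

theorem heq3_18_2 : wordApply (sgnProg pL) ((18, false) :: W 18) (slice 19 2) = slice 19 2 := by decide +kernel

theorem heq3_18_3 : wordApply (sgnProg pL) ((18, false) :: W 18) (slice 19 3) = slice 19 3 := by decide +kernel

theorem heq3_18_4 : wordApply (sgnProg pL) ((18, false) :: W 18) (slice 19 4) = slice 19 4 := by decide +kernel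

theorem heq3_18_5 : wordApply (sgnProg pL) ((18, false) :: W 18) (slice 19 5) = slice 19 5 := by decide +kernel

theorem heq3_18_6 : wordApply (sgnProg pL) ((18, false) :: W 18) (slice 19 6) = slice 19 6 := by decide +kernel

theorem heq3_18_7 : wordApply (sgnProg pL) ((18, false) :: W 18) (slice 19 7) = slice 19 7 := by decide +kernel

theorem heq3_18_8 : wordApply (sgnProg pL) ((18, false) :: W 18) (slice 19 8) = slice 19 8 := by decide +kernel

theorem heq3_18_9 : wordApply (sgnProg pL) ((18, false) :: W 18) (slice 19 9) = slice 19 9 := by decide +kernel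

theorem heq3_18_10 : wordApply (sgnProg pL) ((18, false) :: W 18) (slice 19 10) = slice 19 10 := by decide +kernel

theorem heq3_18_11 : wordApply (sgnProg pL) ((18, false) :: W 18) (slice 19 11) = slice 19 11 := by decide +kernel

theorem heq3_18_12 : wordApply (sgnProg pL) ((18, false) :: W 18) (slice 19 12) = slice 19 12 := by decide +kernel

theorem heq3_18_13 : wordApply (sgnProg pL) ((18, false) :: W 18) (slice 19 13) = slice 19 13 := by decide +kernel

theorem heq3_18_14 : wordApply (sgnProg pL) ((18, false) :: W 18) (slice 19 14) = slice 19 14 := by decide +kernel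

theorem heq3_18_15 : wordApply (sgnProg pL) ((18, false) :: W 18) (slice 19 15) = slice 19 15 := by decide +kernel

theorem heq3_18_16 : wordApply (sgnProg pL) ((18, false) :: W 18) (slice 19 16) = slice 19 16 := by decide +kernel

theorem heq3_18_17 : wordApply (sgnProg pL) ((18, false) :: W 18) (slice 19 17) = slice 19 17 := by decide +kernel

theorem heq3_18_18 : wordApply (sgnProg pL) ((18, false) :: W 18) (slice 19 18) = slice 19 18 := by decide +kernel

theorem heq3_18 : ∀ j, j < 19 → wordApply (sgnProg pL) ((18, false) :: W 18) (slice 19 j) = slice 19 j := by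
  intro j hj
  interval_cases j
  exacts [heq3_18_0, heq3_18_1, heq3_18_2, heq3_18_3, heq3_18_4, heq3_18_5, heq3_18_6, heq3_18_7, heq3_18_8, heq3_18_9, heq3_18_10, heq3_18_11, heq3_18_12, heq3_18_13, heq3_18_14, heq3_18_15, heq3_18_16, heq3_18_17, heq3_18_18]

theorem heq3_19_0 : wordApply (sgnProg pL) ((19, false) :: W 19) (slice 19 0) = slice 19 0 := by decide +kernel

theorem heq3_19_1 : wordApply (sgnProg pL) ((19, false) :: W 19) (slice 19 1) = slice 19 1 := by decide +kernel

theorem heq3_19_2 : wordApply (sgnProg pL) ((19, false) :: W 19) (slice 19 2) = slice 19 2 := by decide +kernel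

theorem heq3_19_3 : wordApply (sgnProg pL) ((19, false) :: W 19) (slice 19 3) = slice 19 3 := by decide +kernel

theorem heq3_19_4 : wordApply (sgnProg pL) ((19, false) :: W 19) (slice 19 4) = slice 19 4 := by decide +kernel

theorem heq3_19_5 : wordApply (sgnProg pL) ((19, false) :: W 19) (slice 19 5) = slice 19 5 := by decide +kernel

theorem heq3_19_6 : wordApply (sgnProg pL) ((19, false) :: W 19) (slice 19 6) = slice 19 6 := by decide +kernel

theorem heq3_19_7 : wordApply (sgnProg pL) ((19, false) :: W 19) (slice 19 7) = slice 19 7 := by decide +kernel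

theorem heq3_19_8 : wordApply (sgnProg pL) ((19, false) :: W 19) (slice 19 8) = slice 19 8 := by decide +kernel

theorem heq3_19_9 : wordApply (sgnProg pL) ((19, false) :: W 19) (slice 19 9) = slice 19 9 := by decide +kernel

theorem heq3_19_10 : wordApply (sgnProg pL) ((19, false) :: W 19) (slice 19 10) = slice 19 10 := by decide +kernel

theorem heq3_19_11 : wordApply (sgnProg pL) ((19, false) :: W 19) (slice 19 11) = slice 19 11 := by decide +kernel

theorem heq3_19_12 : wordApply (sgnProg pL) ((19, false) :: W 19) (slice 19 12) = slice 19 12 := by decide +kernel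

theorem heq3_19_13 : wordApply (sgnProg pL) ((19, false) :: W 19) (slice 19 13) = slice 19 13 := by decide +kernel

theorem heq3_19_14 : wordApply (sgnProg pL) ((19, false) :: W 19) (slice 19 14) = slice 19 14 := by decide +kernel

theorem heq3_19_15 : wordApply (sgnProg pL) ((19, false) :: W 19) (slice 19 15) = slice 19 15 := by decide +kernel

theorem heq3_19_16 : wordApply (sgnProg pL) ((19, false) :: W 19) (slice 19 16) = slice 19 16 := by decide +kernel

theorem heq3_19_17 : wordApply (sgnProg pL) ((19, false) :: W 19) (slice 19 17) = slice 19 17 := by decide +kernel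

theorem heq3_19_18 : wordApply (sgnProg pL) ((19, false) :: W 19) (slice 19 18) = slice 19 18 := by decide +kernel

theorem heq3_19 : ∀ j, j < 19 → wordApply (sgnProg pL) ((19, false) :: W 19) (slice 19 j) = slice 19 j := by
  intro j hj
  interval_cases j
  exacts [heq3_19_0, heq3_19_1, heq3_19_2, heq3_19_3, heq3_19_4, heq3_19_5, heq3_19_6, heq3_19_7, heq3_19_8, heq3_19_9, heq3_19_10, heq3_19_11, heq3_19_12, heq3_19_13, heq3_19_14, heq3_19_15, heq3_19_16, heq3_19_17, heq3_19_18]

theorem heq3_20_0 : wordApply (sgnProg pL) ((20, false) :: W 20) (slice 19 0) = slice 19 0 := by decide +kernel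

theorem heq3_20_1 : wordApply (sgnProg pL) ((20, false) :: W 20) (slice 19 1) = slice 19 1 := by decide +kernel

theorem heq3_20_2 : wordApply (sgnProg pL) ((20, false) :: W 20) (slice 19 2) = slice 19 2 := by decide +kernel

theorem heq3_20_3 : wordApply (sgnProg pL) ((20, false) :: W 20) (slice 19 3) = slice 19 3 := by decide +kernel

theorem heq3_20_4 : wordApply (sgnProg pL) ((20, false) :: W 20) (slice 19 4) = slice 19 4 := by decide +kernel

theorem heq3_20_5 : wordApply (sgnProg pL) ((20, false) :: W 20) (slice 19 5) = slice 19 5 := by decide +kernel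

theorem heq3_20_6 : wordApply (sgnProg pL) ((20, false) :: W 20) (slice 19 6) = slice 19 6 := by decide +kernel

theorem heq3_20_7 : wordApply (sgnProg pL) ((20, false) :: W 20) (slice 19 7) = slice 19 7 := by decide +kernel

theorem heq3_20_8 : wordApply (sgnProg pL) ((20, false) :: W 20) (slice 19 8) = slice 19 8 := by decide +kernel

theorem heq3_20_9 : wordApply (sgnProg pL) ((20, false) :: W 20) (slice 19 9) = slice 19 9 := by decide +kernel

theorem heq3_20_10 : wordApply (sgnProg pL) ((20, false) :: W 20) (slice 19 10) = slice 19 10 := by decide +kernel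

theorem heq3_20_11 : wordApply (sgnProg pL) ((20, false) :: W 20) (slice 19 11) = slice 19 11 := by decide +kernel

theorem heq3_20_12 : wordApply (sgnProg pL) ((20, false) :: W 20) (slice 19 12) = slice 19 12 := by decide +kernel

theorem heq3_20_13 : wordApply (sgnProg pL) ((20, false) :: W 20) (slice 19 13) = slice 19 13 := by decide +kernel

theorem heq3_20_14 : wordApply (sgnProg pL) ((20, false) :: W 20) (slice 19 14) = slice 19 14 := by decide +kernel

theorem heq3_20_15 : wordApply (sgnProg pL) ((20, false) :: W 20) (slice 19 15) = slice 19 15 := by decide +kernel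

theorem heq3_20_16 : wordApply (sgnProg pL) ((20, false) :: W 20) (slice 19 16) = slice 19 16 := by decide +kernel

theorem heq3_20_17 : wordApply (sgnProg pL) ((20, false) :: W 20) (slice 19 17) = slice 19 17 := by decide +kernel

theorem heq3_20_18 : wordApply (sgnProg pL) ((20, false) :: W 20) (slice 19 18) = slice 19 18 := by decide +kernel

theorem heq3_20 : ∀ j, j < 19 → wordApply (sgnProg pL) ((20, false) :: W 20) (slice 19 j) = slice 19 j := by
  intro j hj
  interval_cases j
  exacts [heq3_20_0, heq3_20_1, heq3_20_2, heq3_20_3, heq3_20_4, heq3_20_5, heq3_20_6, heq3_20_7, heq3_20_8, heq3_20_9, heq3_20_10, heq3_20_11, heq3_20_12, heq3_20_13, heq3_20_14, heq3_20_15, heq3_20_16, heq3_20_17, heq3_20_18]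

theorem heq3 : ∀ t ∈ S4, ∀ j, j < 19 →
    wordApply (sgnProg pL) ((t, false) :: W t) (slice 19 j) = slice 19 j := by
  intro t ht
  simp only [S4, List.mem_cons, List.not_mem_nil, or_false] at ht
  rcases ht with rfl|rfl|rfl|rfl
  exacts [heq3_17, heq3_18, heq3_19, heq3_20]

theorem hfx3 : ∀ t ∈ S4, progApply (pL t) (2 ^ 102687) = 2 ^ 102687 := by decide +kernel

theorem hgrow3 : growLN pL S3 8 (2 ^ 102687) = O3 := by decide +kernel

theorem hc3 : sumRange O3.testBit 19 0 = 93312 := by
  rw [Cfsg.Agent.Lib.TcLevels.sumRange_eq_popC]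
  decide +kernel

theorem hm3 : ∀ i ∈ S3, progApply (pL i) O3 = O3 := by decide +kernel

theorem hb3 : O3.testBit 102687 = true := by decide +kernel

end Cfsg.Agent.Lib.FiO
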