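import Mathlib
import Cfsg.Agent.Lib.FiO.Lk
import Cfsg.Agent.Lib.TcLevels

set_option autoImplicit false
set_option maxRecDepth 100000
set_option Elab.async false
set_option linter.all false

namespace Cfsg.Agent.Lib.FiO

open Cfsg.Spor Cfsg.Agent.Lib.OutStrip Cfsg.Agent.Lib.TcFacts Cfsg.Agent.Lib.TcBits Cfsg.Agent.Lib.TcChain Cfsg.Agent.Lib.TcPres
open Cfsg.Agent.TcData.Fi24
open Cfsg.Agent.TcData.Fi24.I306936 (pr Phi hR hv)

theorem hW4 : ∀ t ∈ S5, ∀ a ∈ W t, a.1 ∈ S4 := by decide +kernel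

theorem heq4 : ∀ t ∈ S5, ∀ j, j < 19 →
    wordApply (sgnProg pL) ((t, false) :: W t) (slice 19 j) = slice 19 j := by
  intro t ht
  simp [S5] at ht

theorem hfx4 : ∀ t ∈ S5, progApply (pL t) (2 ^ 62908) = 2 ^ 62908 := by decide +kernel

theorem hgrow4 : growLN pL S4 4 (2 ^ 62908) = O4 := by decide +kernel

theorem hc4 : sumRange O4.testBit 19 0 = 1458 := by
  rw [Cfsg.Agent.Lib.TcLevels.sumRange_eq_popC]
  decide +kernel

theorem hm4 : ∀ i ∈ S4, progApply (pL i) O4 = O4 := by decide +kernel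

theorem hb4 : O4.testBit 62908 = true := by decide +kernel

end Cfsg.Agent.Lib.FiO
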