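import Mathlib
import Cfsg.Agent.Lib.FiO.Chk0
import Cfsg.Agent.Lib.FiO.Chk1
import Cfsg.Agent.Lib.FiO.Chk2
import Cfsg.Agent.Lib.FiO.Chk3
import Cfsg.Agent.Lib.FiO.Chk4
import Cfsg.Agent.Lib.FiO.Chk5
import Cfsg.Agent.Lib.FiO.Chk6
import Cfsg.Agent.Lib.FiO.Chk7
import Cfsg.Agent.Lib.FiO.Chk8
import Cfsg.Agent.Lib.FiO.Lv0
import Cfsg.Agent.Lib.FiO.Lv1
import Cfsg.Agent.Lib.FiO.Lv2
import Cfsg.Agent.Lib.FiO.Lv3
import Cfsg.Agent.Lib.FiO.Lv4
import Cfsg.Agent.Lib.F24Main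
import Cfsg.Agent.Lib.PresBridge

set_option autoImplicit false
set_option maxRecDepth 100000
set_option Elab.async false
set_option linter.all false

namespace Cfsg.Agent.Lib.FiO

open Cfsg.Spor Cfsg.Agent.Lib.OutStrip Cfsg.Agent.Lib.TcFacts Cfsg.Agent.Lib.TcBits Cfsg.Agent.Lib.TcChain Cfsg.Agent.Lib.TcPres
open Cfsg.Agent.TcData.Fi24
open Cfsg.Agent.TcData.Fi24.I306936 (pr Phi hR hv)

/-- the group of programs -/
noncomputable abbrev AA : Subgroup (Equiv.Perm ℕ) := Gp pL S0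

/-- the number of points -/
abbrev nn : ℕ := 306936

theorem card_A : Nat.card Fi24 = 2510411418381323442585600 := by
  rw [Cfsg.Agent.Lib.F24Main.card_P]

instance instF : Finite Fi24 := Cfsg.Agent.Lib.F24Main.finite_P

theorem Phi_of (x : Cfsg.Spor.Fi24.Gen) : Phi (PresentedGroup.of x) = progPerm (pr x) := repOf_of hR x

theorem hgl : ∀ x : Cfsg.Spor.Fi24.Gen, ∃ i ∈ S0, pr x = pL i := by
  intro x
  cases x
  · exact ⟨0, by decide, (hS0 0 (by decide)).symm⟩
  · exact ⟨1, by decide, (hS0 1 (by decide)).symm⟩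
  · exact ⟨2, by decide, (hS0 2 (by decide)).symm⟩
  · exact ⟨3, by decide, (hS0 3 (by decide)).symm⟩
  · exact ⟨4, by decide, (hS0 4 (by decide)).symm⟩
  · exact ⟨5, by decide, (hS0 5 (by decide)).symm⟩
  · exact ⟨6, by decide, (hS0 6 (by decide)).symm⟩
  · exact ⟨7, by decide, (hS0 7 (by decide)).symm⟩
  · exact ⟨8, by decide, (hS0 8 (by decide)).symm⟩
  · exact ⟨9, by decide, (hS0 9 (by decide)).symm⟩
  · exact ⟨10, by decide, (hS0 10 (by decide)).symm⟩
  · exact ⟨11, by decide, (hS0 11 (by decide)).symm⟩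

theorem range_le : Phi.range ≤ AA := by
  rintro _ ⟨z, rfl⟩
  refine Cfsg.Agent.Lib.PresBridge.map_mem Phi AA (fun x => ?_) z
  rw [Phi_of]
  obtain ⟨i, hi, e⟩ := hgl x
  rw [e]
  exact mem_Gp_of_mem hi

theorem hAfin : Finite AA := by
  have hfinr : Finite Phi.range := Finite.of_surjective Phi.rangeRestrict Phi.rangeRestrict_surjective
  exact Finite.of_injective (Subgroup.inclusion hK) (Subgroup.inclusion_injective hK)

theorem lvl0 (h : Nat.card (Gp pL S0) ≠ 0) : Nat.card (Gp pL S1) ≠ 0 ∧ 306936 * Nat.card (Gp pL S1) ≤ Nat.card (Gp pL S0) :=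
  level_step hvp S0 S1 W hW0 heq0 hfx0 hgrow0 hc0 h
theorem lvl1 (h : Nat.card (Gp pL S1) ≠ 0) : Nat.card (Gp pL S2) ≠ 0 ∧ 275264 * Nat.card (Gp pL S2) ≤ Nat.card (Gp pL S1) :=
  level_step hvp S1 S2 W hW1 heq1 hfx1 hgrow1 hc1 h
theorem lvl2 (h : Nat.card (Gp pL S2) ≠ 0) : Nat.card (Gp pL S3) ≠ 0 ∧ 218400 * Nat.card (Gp pL S3) ≤ Nat.card (Gp pL S2) :=
  level_step hvp S2 S3 W hW2 heq2 hfx2 hgrow2 hc2 h
theorem lvl3 (h : Nat.card (Gp pL S3) ≠ 0) : Nat.card (Gp pL S4) ≠ 0 ∧ 93312 * Nat.card (Gp pL S4) ≤ Nat.card (Gp pL S3) :=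
  level_step hvp S3 S4 W hW3 heq3 hfx3 hgrow3 hc3 h
theorem lvl4 (h : Nat.card (Gp pL S4) ≠ 0) : Nat.card (Gp pL S5) ≠ 0 ∧ 1458 * Nat.card (Gp pL S5) ≤ Nat.card (Gp pL S4) :=
  level_step hvp S4 S5 W hW4 heq4 hfx4 hgrow4 hc4 h

theorem le_low : 2510411418381323442585600 ≤ Nat.card AA := by
  haveI := hAfin
  have h0 : Nat.card (Gp pL S0) ≠ 0 := Nat.card_pos.ne'
  have L0 := lvl0 h0
  have L1 := lvl1 L0.1
  have L2 := lvl2 L1.1
  have L3 := lvl3 L2.1
  have L4 := lvl4 L3.1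
  have h5 := Nat.pos_of_ne_zero L4.1
  have h6 := L0.2
  have h7 := L1.2
  have h8 := L2.2
  have h9 := L3.2
  have h10 := L4.2
  show 2510411418381323442585600 ≤ Nat.card (Gp pL S0)
  omega

theorem Phi_bij : Function.Injective Phi := by
  haveI hfinr : Finite Phi.range := Finite.of_surjective Phi.rangeRestrict Phi.rangeRestrict_surjective
  have h1 : Nat.card AA ≤ Nat.card Phi.range :=
    Nat.card_le_card_of_injective (Subgroup.inclusion hK) (Subgroup.inclusion_injective hK)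
  have h2 : Nat.card Fi24 ≤ Nat.card Phi.range := by
    rw [card_A]
    exact le_trans le_low h1
  have h3 : Function.Bijective Phi.rangeRestrict :=
    Function.Surjective.bijective_of_nat_card_le Phi.rangeRestrict_surjective h2
  intro a b hab
  apply h3.1
  exact Subtype.ext hab

theorem hRange : AA = Phi.range := le_antisymm hK range_le

theorem cardAA : Nat.card AA = 2510411418381323442585600 := by
  rw [hRange]
  rw [← card_A]
  exact (Nat.card_congr (MonoidHom.ofInjective Phi_bij).toEquiv).symm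

theorem cards : Nat.card (Gp pL S1) = 8178940946586009600 ∧ Nat.card (Gp pL S2) = 29713078886400 ∧ Nat.card (Gp pL S3) = 136048896 ∧ Nat.card (Gp pL S4) = 1458 ∧ Nat.card (Gp pL S5) = 1 := by
  have h0 : Nat.card (Gp pL S0) ≠ 0 := by
    show Nat.card AA ≠ 0
    rw [cardAA]
    norm_num
  have L0 := lvl0 h0
  have L1 := lvl1 L0.1
  have L2 := lvl2 L1.1
  have L3 := lvl3 L2.1
  have L4 := lvl4 L3.1
  have h5 := Nat.pos_of_ne_zero L4.1
  have h4 : Nat.card (Gp pL S0) = 2510411418381323442585600 := cardAA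
  have h6 := L0.2
  have h7 := L1.2
  have h8 := L2.2
  have h9 := L3.2
  have h10 := L4.2
  omega

theorem e5 : Gp pL S5 = ⊥ := by
  simp [Gp, S5]

theorem le1 : Gp pL S1 ≤ Gp pL S0 := Gp_le hvp S0 S1 W hW0 heq0
theorem le2 : Gp pL S2 ≤ Gp pL S1 := Gp_le hvp S1 S2 W hW1 heq1
theorem le3 : Gp pL S3 ≤ Gp pL S2 := Gp_le hvp S2 S3 W hW2 heq2
theorem le4 : Gp pL S4 ≤ Gp pL S3 := Gp_le hvp S3 S4 W hW3 heq3

theorem st0 : ∀ z ∈ Gp pL S0, z 0 = 0 → z ∈ Gp pL S1 :=
  stab_step hvp S0 S1 W hW0 heq0 hfx0 hgrow0 hc0 (by show Nat.card AA ≠ 0; rw [cardAA]; norm_num) (by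
    show Nat.card AA ≤ _
    rw [cardAA, cards.1])
theorem st1 : ∀ z ∈ Gp pL S1, z 109129 = 109129 → z ∈ Gp pL S2 :=
  stab_step hvp S1 S2 W hW1 heq1 hfx1 hgrow1 hc1 (by rw [cards.1]; norm_num) (by rw [cards.1, cards.2.1])
theorem st2 : ∀ z ∈ Gp pL S2, z 181265 = 181265 → z ∈ Gp pL S3 :=
  stab_step hvp S2 S3 W hW2 heq2 hfx2 hgrow2 hc2 (by rw [cards.2.1]; norm_num) (by rw [cards.2.1, cards.2.2.1])
theorem st3 : ∀ z ∈ Gp pL S3, z 102687 = 102687 → z ∈ Gp pL S4 :=
  stab_step hvp S3 S4 W hW3 heq3 hfx3 hgrow3 hc3 (by rw [cards.2.2.1]; norm_num) (by rw [cards.2.2.1, cards.2.2.2.1])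
theorem st4 : ∀ z ∈ Gp pL S4, z 62908 = 62908 → z ∈ (⊥ : Subgroup (Equiv.Perm ℕ)) := by
  rw [← e5]
  exact stab_step hvp S4 S5 W hW4 heq4 hfx4 hgrow4 hc4 (by rw [cards.2.2.2.1]; norm_num) (by rw [cards.2.2.2.1, cards.2.2.2.2])

theorem habL : ∀ x ∈ gensL, ∀ j, j < 19 →
    progApply (pr x) (Nat.land (slice 19 j) (2 ^ (2 ^ 19) - 2 ^ 306936)) =
      Nat.land (slice 19 j) (2 ^ (2 ^ 19) - 2 ^ 306936) := by decide +kernel

theorem hab : ∀ x, ∀ i, 306936 ≤ i → progPerm (pr x) i = i :=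
  fix_above_gen (by norm_num) (by norm_num) hv gensL (by intro x; cases x <;> decide) habL

theorem fix_AA : ∀ z ∈ AA, ∀ i, nn ≤ i → z i = i := by
  intro z hz i hi
  rw [hRange] at hz
  obtain ⟨h, rfl⟩ := hz
  exact fix_above_all hR (fun x => hab x i hi) h

theorem lt_AA {z : Equiv.Perm ℕ} (hz : z ∈ AA) : ∀ i, i < nn → z i < nn := lt_of_fix (fix_AA z hz)

theorem CMl_eq : CMl = 2 ^ (19 * 1008) - 1 := by decide +kernel
theorem CMm_eq : CMm = 2 ^ (19 * 1008 * 32) - 1 := by decide +kernel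
theorem MULl_eq : MULl = repU 18 18 := by decide +kernel
theorem MSKl_eq : MSKl = repU 19 18 := by decide +kernel
theorem CSl_eq : CSl = 2 ^ 1008 - 1 := by decide +kernel

theorem lk_eq : lk = lkF2 19 1008 (19 * 1008) (2 ^ (19 * 1008) - 1) 32 (19 * 1008 * 32) (2 ^ (19 * 1008 * 32) - 1) (2 ^ 19 - 1) := by
  funext t i
  unfold lk
  rw [← CMl_eq, ← CMm_eq]
  rfl

theorem hlk : ReadsT lk 19 := by
  rw [lk_eq]
  exact readsT_lkF2 (by norm_num) (by norm_num)

theorem rep_of_chk {w : List (ℕ × Bool)} {T : ℕ} (hw : wordPerm (sgnProg pL) w ∈ AA)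
    (h1 : ∀ p, p < 19 → chkOne w T p = true) :
    RepT lk nn (wordPerm (sgnProg pL) w) T := by
  refine repT_of_word (N := 2 ^ 19) (K := 19) (B := 18) (CS := 1008) (NB := 56) (KB := 6) (NH := 305) (KH := 9) hlk (sgnProg pL) w
    (fun a _ => valid_sgnProg hvp a) (by norm_num) (by norm_num) (by norm_num) (by norm_num) (by norm_num) (by norm_num)
    (by norm_num) (lt_AA hw) ?_
  intro j hj
  have h2 := h1 j hj
  unfold chkOne at h2
  rw [MULl_eq, MSKl_eq, CMl_eq, CSl_eq] at h2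
  exact h2

theorem rp {S S' : List ℕ} (hle : Gp pL S ≤ Gp pL S') (hS' : Gp pL S' ≤ AA) {w : List (ℕ × Bool)} {T : ℕ} (hw : ∀ a ∈ w, a.1 ∈ S)
    (h : ∀ p, p < 19 → chkOne w T p = true) : ∃ s ∈ Gp pL S', RepT lk nn s T :=
  ⟨wordPerm (sgnProg pL) w, hle (word_mem_Gp hvp hw), rep_of_chk (hS' (hle (word_mem_Gp hvp hw))) h⟩

theorem hts0 : ∀ t ∈ lv0.ts, ∃ s ∈ Gp pL S0, RepT lk nn s t := by
  intro t ht
  simp only [lv0, List.mem_cons, List.not_mem_nil, or_false] at ht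
  rcases ht with rfl|rfl|rfl|rfl|rfl|rfl|rfl|rfl|rfl|rfl|rfl|rfl|rfl|rfl|rfl|rfl|rfl|rfl|rfl|rfl|rfl
  exacts [rp le_rfl le_rfl (S := S0) (w := wTab 0) (by decide +kernel) c_tA0,
    rp le_rfl le_rfl (S := S0) (w := wTab 1) (by decide +kernel) c_tA1,
    rp le_rfl le_rfl (S := S0) (w := wTab 2) (by decide +kernel) c_tA2,
    rp le_rfl le_rfl (S := S0) (w := wTab 3) (by decide +kernel) c_tA3,
    rp le_rfl le_rfl (S := S0) (w := wTab 4) (by decide +kernel) c_tA4,
    rp le_rfl le_rfl (S := S0) (w := wTab 5) (by decide +kernel) c_tA5,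
    rp le_rfl le_rfl (S := S0) (w := wTab 6) (by decide +kernel) c_tA6,
    rp le_rfl le_rfl (S := S0) (w := wTab 7) (by decide +kernel) c_tA7,
    rp le_rfl le_rfl (S := S0) (w := wTab 8) (by decide +kernel) c_tA8,
    rp le_rfl le_rfl (S := S0) (w := wTab 9) (by decide +kernel) c_tA9,
    rp le_rfl le_rfl (S := S0) (w := wTab 10) (by decide +kernel) c_tA10,
    rp le_rfl le_rfl (S := S0) (w := wTab 11) (by decide +kernel) c_tA11,
    rp (le2.trans le1) le_rfl (S := S2) (w := wTab 12) (by decide +kernel) c_tA12,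
    rp (le2.trans le1) le_rfl (S := S2) (w := wTab 13) (by decide +kernel) c_tA13,
    rp (le3.trans (le2.trans le1)) le_rfl (S := S3) (w := wTab 14) (by decide +kernel) c_tA14,
    rp (le3.trans (le2.trans le1)) le_rfl (S := S3) (w := wTab 15) (by decide +kernel) c_tA15,
    rp (le3.trans (le2.trans le1)) le_rfl (S := S3) (w := wTab 16) (by decide +kernel) c_tA16,
    rp (le4.trans (le3.trans (le2.trans le1))) le_rfl (S := S4) (w := wTab 17) (by decide +kernel) c_tA17,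
    rp (le4.trans (le3.trans (le2.trans le1))) le_rfl (S := S4) (w := wTab 18) (by decide +kernel) c_tA18,
    rp (le4.trans (le3.trans (le2.trans le1))) le_rfl (S := S4) (w := wTab 19) (by decide +kernel) c_tA19,
    rp (le4.trans (le3.trans (le2.trans le1))) le_rfl (S := S4) (w := wTab 20) (by decide +kernel) c_tA20]

theorem hts1 : ∀ t ∈ lv1.ts, ∃ s ∈ Gp pL S1, RepT lk nn s t := by
  intro t ht
  simp only [lv1, List.mem_cons, List.not_mem_nil, or_false] at ht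
  rcases ht with rfl|rfl|rfl|rfl|rfl|rfl|rfl|rfl|rfl|rfl|rfl|rfl|rfl|rfl|rfl|rfl|rfl|rfl|rfl|rfl
  exacts [rp le_rfl le1 (S := S1) (w := wTab 0) (by decide +kernel) c_tA0,
    rp le_rfl le1 (S := S1) (w := wTab 2) (by decide +kernel) c_tA2,
    rp le_rfl le1 (S := S1) (w := wTab 3) (by decide +kernel) c_tA3,
    rp le_rfl le1 (S := S1) (w := wTab 4) (by decide +kernel) c_tA4,
    rp le_rfl le1 (S := S1) (w := wTab 5) (by decide +kernel) c_tA5,
    rp le_rfl le1 (S := S1) (w := wTab 6) (by decide +kernel) c_tA6,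
    rp le_rfl le1 (S := S1) (w := wTab 7) (by decide +kernel) c_tA7,
    rp le_rfl le1 (S := S1) (w := wTab 8) (by decide +kernel) c_tA8,
    rp le_rfl le1 (S := S1) (w := wTab 9) (by decide +kernel) c_tA9,
    rp le_rfl le1 (S := S1) (w := wTab 10) (by decide +kernel) c_tA10,
    rp le_rfl le1 (S := S1) (w := wTab 11) (by decide +kernel) c_tA11,
    rp le2 le1 (S := S2) (w := wTab 12) (by decide +kernel) c_tA12,
    rp le2 le1 (S := S2) (w := wTab 13) (by decide +kernel) c_tA13,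
    rp (le3.trans le2) le1 (S := S3) (w := wTab 14) (by decide +kernel) c_tA14,
    rp (le3.trans le2) le1 (S := S3) (w := wTab 15) (by decide +kernel) c_tA15,
    rp (le3.trans le2) le1 (S := S3) (w := wTab 16) (by decide +kernel) c_tA16,
    rp (le4.trans (le3.trans le2)) le1 (S := S4) (w := wTab 17) (by decide +kernel) c_tA17,
    rp (le4.trans (le3.trans le2)) le1 (S := S4) (w := wTab 18) (by decide +kernel) c_tA18,
    rp (le4.trans (le3.trans le2)) le1 (S := S4) (w := wTab 19) (by decide +kernel) c_tA19,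
    rp (le4.trans (le3.trans le2)) le1 (S := S4) (w := wTab 20) (by decide +kernel) c_tA20]

theorem hts2 : ∀ t ∈ lv2.ts, ∃ s ∈ Gp pL S2, RepT lk nn s t := by
  intro t ht
  simp only [lv2, List.mem_cons, List.not_mem_nil, or_false] at ht
  rcases ht with rfl|rfl|rfl|rfl|rfl|rfl|rfl|rfl|rfl
  exacts [rp le_rfl (le2.trans le1) (S := S2) (w := wTab 12) (by decide +kernel) c_tA12,
    rp le_rfl (le2.trans le1) (S := S2) (w := wTab 13) (by decide +kernel) c_tA13,
    rp le3 (le2.trans le1) (S := S3) (w := wTab 14) (by decide +kernel) c_tA14,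
    rp le3 (le2.trans le1) (S := S3) (w := wTab 15) (by decide +kernel) c_tA15,
    rp le3 (le2.trans le1) (S := S3) (w := wTab 16) (by decide +kernel) c_tA16,
    rp (le4.trans le3) (le2.trans le1) (S := S4) (w := wTab 17) (by decide +kernel) c_tA17,
    rp (le4.trans le3) (le2.trans le1) (S := S4) (w := wTab 18) (by decide +kernel) c_tA18,
    rp (le4.trans le3) (le2.trans le1) (S := S4) (w := wTab 19) (by decide +kernel) c_tA19,
    rp (le4.trans le3) (le2.trans le1) (S := S4) (w := wTab 20) (by decide +kernel) c_tA20]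

theorem hts3 : ∀ t ∈ lv3.ts, ∃ s ∈ Gp pL S3, RepT lk nn s t := by
  intro t ht
  simp only [lv3, List.mem_cons, List.not_mem_nil, or_false] at ht
  rcases ht with rfl|rfl|rfl|rfl|rfl|rfl|rfl
  exacts [rp le_rfl (le3.trans (le2.trans le1)) (S := S3) (w := wTab 14) (by decide +kernel) c_tA14,
    rp le_rfl (le3.trans (le2.trans le1)) (S := S3) (w := wTab 15) (by decide +kernel) c_tA15,
    rp le_rfl (le3.trans (le2.trans le1)) (S := S3) (w := wTab 16) (by decide +kernel) c_tA16,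
    rp le4 (le3.trans (le2.trans le1)) (S := S4) (w := wTab 17) (by decide +kernel) c_tA17,
    rp le4 (le3.trans (le2.trans le1)) (S := S4) (w := wTab 18) (by decide +kernel) c_tA18,
    rp le4 (le3.trans (le2.trans le1)) (S := S4) (w := wTab 19) (by decide +kernel) c_tA19,
    rp le4 (le3.trans (le2.trans le1)) (S := S4) (w := wTab 20) (by decide +kernel) c_tA20]

theorem hts4 : ∀ t ∈ lv4.ts, ∃ s ∈ Gp pL S4, RepT lk nn s t := by
  intro t ht
  simp only [lv4, List.mem_cons, List.not_mem_nil, or_false] at ht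
  rcases ht with rfl|rfl|rfl|rfl
  exacts [rp le_rfl (le4.trans (le3.trans (le2.trans le1))) (S := S4) (w := wTab 17) (by decide +kernel) c_tA17,
    rp le_rfl (le4.trans (le3.trans (le2.trans le1))) (S := S4) (w := wTab 18) (by decide +kernel) c_tA18,
    rp le_rfl (le4.trans (le3.trans (le2.trans le1))) (S := S4) (w := wTab 19) (by decide +kernel) c_tA19,
    rp le_rfl (le4.trans (le3.trans (le2.trans le1))) (S := S4) (w := wTab 20) (by decide +kernel) c_tA20]

/-- The chain of stabilizers. -/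
theorem hCh : Ch lk nn AA Ls := by
  show Ch lk nn _ [lv0, lv1, lv2, lv3, lv4]
  refine Ch.cons (H' := Gp pL S1) ?_ st0 hts0 (Ch.cons (H' := Gp pL S2) ?_ st1 hts1 (Ch.cons (H' := Gp pL S3) ?_ st2 hts2
    (Ch.cons (H' := Gp pL S4) ?_ st3 hts3 (Ch.cons (H' := ⊥) ?_ st4 hts4 Ch.nil))))
  · exact mask_of_gens hvp S0 hb0 hm0
  · exact mask_of_gens hvp S1 hb1 hm1
  · exact mask_of_gens hvp S2 hb2 hm2
  · exact mask_of_gens hvp S3 hb3 hm3
  · exact mask_of_gens hvp S4 hb4 hm4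

theorem hbase : ∀ b ∈ baseOf Ls, b < nn := by decide +kernel

theorem eB : baseOf Ls = base := rfl

end Cfsg.Agent.Lib.FiO
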