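import Mathlib
import Cfsg.Agent.Lib.FiO.Ch
import Cfsg.Agent.Lib.FiO.Nodes

/-!
# The elements of the group `Fi₂₄` on 306936 points
-/

set_option autoImplicit false
set_option maxRecDepth 100000
set_option Elab.async false
set_option linter.all false

namespace Cfsg.Agent.Lib.FiO

open Cfsg.Spor Cfsg.Agent.Lib.OutStrip Cfsg.Agent.Lib.TcFacts Cfsg.Agent.Lib.TcBits Cfsg.Agent.Lib.TcChain Cfsg.Agent.Lib.TcPres
open Cfsg.Agent.TcData.Fi24
open Cfsg.Agent.TcData.Fi24.I306936 (pr Phi hR hv)

/-- the permutation of a table -/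
noncomputable def sP (j : ℕ) : Equiv.Perm ℕ := wordPerm (sgnProg pL) (wTab j)

theorem hTm : ∀ j, j < NT → sP j ∈ AA := by
  have key : ∀ j, j < NT → (wTab j).all (fun a => Nat.blt a.1 21) = true := by decide +kernel
  have hl : ∀ i, i < 21 → progPerm (pL i) ∈ AA := by
    have h1 : ∀ i ∈ S1, progPerm (pL i) ∈ AA := fun i hi => le1 (mem_Gp_of_mem hi)
    have h2 : ∀ i ∈ S2, progPerm (pL i) ∈ AA := fun i hi => le1 (le2 (mem_Gp_of_mem hi))
    have h3 : ∀ i ∈ S3, progPerm (pL i) ∈ AA := fun i hi => le1 (le2 (le3 (mem_Gp_of_mem hi)))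
    have h4 : ∀ i ∈ S4, progPerm (pL i) ∈ AA := fun i hi => le1 (le2 (le3 (le4 (mem_Gp_of_mem hi))))
    have h0 : ∀ i ∈ S0, progPerm (pL i) ∈ AA := fun i hi => mem_Gp_of_mem hi
    intro i hi
    have hc : i ∈ S0 ∨ i ∈ S2 ∨ i ∈ S3 ∨ i ∈ S4 := by
      revert i
      decide
    rcases hc with h | h | h | h
    · exact h0 i h
    · exact h2 i h
    · exact h3 i h
    · exact h4 i h
  have hword : ∀ w : List (ℕ × Bool), w.all (fun a => Nat.blt a.1 21) = true → wordPerm (sgnProg pL) w ∈ AA := by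
    intro w h1
    induction w with
    | nil => exact AA.one_mem
    | cons a w ih =>
      rw [List.all_cons, Bool.and_eq_true] at h1
      have e : wordPerm (sgnProg pL) (a :: w) = progPerm (sgnProg pL a) * wordPerm (sgnProg pL) w := by
        simp [wordPerm]
      rw [e]
      refine AA.mul_mem ?_ (ih h1.2)
      have h2 : a.1 < 21 := by
        have := h1.1
        rw [Nat.blt_eq] at this
        exact this
      obtain ⟨i, b⟩ := a
      cases b
      · show progPerm (pL i).reverse ∈ _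
        rw [progPerm_reverse_mul _ _ (hvp i)]
        exact AA.inv_mem (hl i h2)
      · exact hl i h2
  intro j hj
  exact hword _ (key j hj)

theorem hTr : ∀ j, j < NT → RepT lk nn (sP j) (tab j) := by
  intro j hj
  have hm := hTm j hj
  interval_cases j
  exacts [rep_of_chk hm c_tA0, rep_of_chk hm c_tA1, rep_of_chk hm c_tA2, rep_of_chk hm c_tA3, rep_of_chk hm c_tA4,
    rep_of_chk hm c_tA5, rep_of_chk hm c_tA6, rep_of_chk hm c_tA7, rep_of_chk hm c_tA8, rep_of_chk hm c_tA9,
    rep_of_chk hm c_tA10, rep_of_chk hm c_tA11, rep_of_chk hm c_tA12, rep_of_chk hm c_tA13, rep_of_chk hm c_tA14,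
    rep_of_chk hm c_tA15, rep_of_chk hm c_tA16, rep_of_chk hm c_tA17, rep_of_chk hm c_tA18, rep_of_chk hm c_tA19,
    rep_of_chk hm c_tA20, rep_of_chk hm c_tF, rep_of_chk hm c_tT, rep_of_chk hm c_tX2]

/-- the product of tables -/
noncomputable def prodT (L : List ℕ) : Equiv.Perm ℕ := (L.map sP).prod

theorem prodT_spec (L : List ℕ) (hL : L.all (fun j => Nat.blt j NT) = true) :
    prodT L ∈ AA ∧ RepL lk nn (prodT L) (L.map tab) := by
  induction L with
  | nil => exact ⟨AA.one_mem, repL_one⟩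
  | cons a L ih =>
    rw [List.all_cons, Bool.and_eq_true] at hL
    obtain ⟨h1, h2⟩ := ih hL.2
    have h3 : a < NT := by
      have := hL.1
      rw [Nat.blt_eq] at this
      exact this
    have e : prodT (a :: L) = sP a * prodT L := by simp [prodT]
    rw [e]
    exact ⟨AA.mul_mem (hTm a h3) h1, h2.cons (hTr a h3)⟩

/-- the element of order 29 -/
noncomputable def xP : Equiv.Perm ℕ := prodT iX
/-- its inverse -/
noncomputable def xiP : Equiv.Perm ℕ := prodT iXi
/-- the element of order 3 -/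
noncomputable def yP : Equiv.Perm ℕ := prodT iY
/-- its inverse -/
noncomputable def yiP : Equiv.Perm ℕ := prodT iYi
/-- the change of frame -/
noncomputable def cP : Equiv.Perm ℕ := prodT iC
/-- its inverse -/
noncomputable def ciP : Equiv.Perm ℕ := prodT iCi
/-- the odd element -/
noncomputable def tP : Equiv.Perm ℕ := sP 22
/-- the element of order 14 -/
noncomputable def fP : Equiv.Perm ℕ := sP 21
/-- the other form of `x` -/
noncomputable def x2P : Equiv.Perm ℕ := sP 23
/-- short form of `f` -/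
noncomputable def f3P : Equiv.Perm ℕ := prodT iF
/-- short form of the inverse of `f` -/
noncomputable def fiP : Equiv.Perm ℕ := prodT iFi

theorem m_x : xP ∈ AA := (prodT_spec iX (by decide +kernel)).1
theorem m_xi : xiP ∈ AA := (prodT_spec iXi (by decide +kernel)).1
theorem m_y : yP ∈ AA := (prodT_spec iY (by decide +kernel)).1
theorem m_yi : yiP ∈ AA := (prodT_spec iYi (by decide +kernel)).1
theorem m_c : cP ∈ AA := (prodT_spec iC (by decide +kernel)).1
theorem m_ci : ciP ∈ AA := (prodT_spec iCi (by decide +kernel)).1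
theorem m_t : tP ∈ AA := hTm 22 (by norm_num)
theorem m_f : fP ∈ AA := hTm 21 (by norm_num)
theorem m_x2 : x2P ∈ AA := hTm 23 (by norm_num)
theorem m_f3 : f3P ∈ AA := (prodT_spec iF (by decide +kernel)).1
theorem m_fi : fiP ∈ AA := (prodT_spec iFi (by decide +kernel)).1

theorem r_x : RepL lk nn xP (iX.map tab) := (prodT_spec iX (by decide +kernel)).2
theorem r_xi : RepL lk nn xiP (iXi.map tab) := (prodT_spec iXi (by decide +kernel)).2
theorem r_y : RepL lk nn yP (iY.map tab) := (prodT_spec iY (by decide +kernel)).2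
theorem r_yi : RepL lk nn yiP (iYi.map tab) := (prodT_spec iYi (by decide +kernel)).2
theorem r_c : RepL lk nn cP (iC.map tab) := (prodT_spec iC (by decide +kernel)).2
theorem r_ci : RepL lk nn ciP (iCi.map tab) := (prodT_spec iCi (by decide +kernel)).2
theorem r_f3 : RepL lk nn f3P (iF.map tab) := (prodT_spec iF (by decide +kernel)).2
theorem r_fi : RepL lk nn fiP (iFi.map tab) := (prodT_spec iFi (by decide +kernel)).2
theorem r_t : RepT lk nn tP tT := hTr 22 (by norm_num)
theorem r_f : RepT lk nn fP tF := hTr 21 (by norm_num)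
theorem r_x2 : RepT lk nn x2P tX2 := hTr 23 (by norm_num)

theorem f_eq : fP = tP * tP := by
  have e : wTab 21 = wTab 22 ++ wTab 22 := by decide +kernel
  unfold fP tP sP
  rw [e]
  simp [wordPerm]

/-- equality on the base -/
theorem eqb {a b : Equiv.Perm ℕ} (ha : a ∈ AA) (hb : b ∈ AA) {A B : List ℕ} (hA : RepL lk nn a A) (hB : RepL lk nn b B)
    (h : agreeB lk base A B = true) : a = b :=
  eq_of_agree hCh ha hb hA hB hbase h

/-- the powers of a product -/
theorem repL_pow {a : Equiv.Perm ℕ} {A : List ℕ} (hA : RepL lk nn a A) : ∀ k, RepL lk nn (a ^ k) (List.replicate k A).flatten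
  | 0 => by simpa using repL_one
  | k + 1 => by
    rw [pow_succ', List.replicate_succ, List.flatten_cons]
    exact hA.append (repL_pow hA k)

theorem x_xi : xP * xiP = 1 := eqb (AA.mul_mem m_x m_xi) AA.one_mem (r_x.append r_xi) repL_one (by decide +kernel)
theorem y_yi : yP * yiP = 1 := eqb (AA.mul_mem m_y m_yi) AA.one_mem (r_y.append r_yi) repL_one (by decide +kernel)
theorem c_ci : cP * ciP = 1 := eqb (AA.mul_mem m_c m_ci) AA.one_mem (r_c.append r_ci) repL_one (by decide +kernel)
theorem f_f3 : f3P = fP := eqb m_f3 m_f r_f3 r_f.toL (by decide +kernel)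
theorem f_fi : fP * fiP = 1 := eqb (AA.mul_mem m_f m_fi) AA.one_mem (r_f.toL.append r_fi) repL_one (by decide +kernel)

theorem xi_eq : xiP = xP⁻¹ := eq_inv_of_mul_eq_one_right x_xi
theorem yi_eq : yiP = yP⁻¹ := eq_inv_of_mul_eq_one_right y_yi
theorem ci_eq : ciP = cP⁻¹ := eq_inv_of_mul_eq_one_right c_ci
theorem fi_eq : fiP = fP⁻¹ := eq_inv_of_mul_eq_one_right f_fi

theorem x_pow : xP ^ 29 = 1 :=
  eqb (AA.pow_mem m_x 29) AA.one_mem (repL_pow r_x 29) repL_one (by decide +kernel)

theorem y_pow : yP ^ 3 = 1 :=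
  eqb (AA.pow_mem m_y 3) AA.one_mem (repL_pow r_y 3) repL_one (by decide +kernel)

theorem x_ne : xP ≠ 1 := by
  intro h
  have h1 : ev lk (iX.map tab) 0 ≠ 0 := by decide +kernel
  apply h1
  rw [← r_x.eq 0 (by norm_num), h]
  rfl

theorem t_x : tP * xP = xP ^ 27 * tP :=
  eqb (AA.mul_mem m_t m_x) (AA.mul_mem (AA.pow_mem m_x 27) m_t) (r_t.toL.append r_x) ((repL_pow r_x 27).append r_t.toL)
    (by decide +kernel)

theorem f_x : fP * xP = xP ^ 4 * fP :=
  eqb (AA.mul_mem m_f m_x) (AA.mul_mem (AA.pow_mem m_x 4) m_f) (r_f.toL.append r_x) ((repL_pow r_x 4).append r_f.toL)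
    (by decide +kernel)

theorem c_x : cP * xP = x2P * cP :=
  eqb (AA.mul_mem m_c m_x) (AA.mul_mem m_x2 m_c) (r_c.append r_x) (r_x2.toL.append r_c) (by decide +kernel)

theorem y_f : yP * fP = fP * yP :=
  eqb (AA.mul_mem m_y m_f) (AA.mul_mem m_f m_y) (r_y.append r_f.toL) (r_f.toL.append r_y) (by decide +kernel)

theorem hSel {a b c : Equiv.Perm ℕ} {A B C : List ℕ} (ha : RepL lk nn a A) (hb : RepL lk nn b B) (hc : RepL lk nn c C) (e : ℕ) :
    RepL lk nn (sel3 a b c e) (sel3 A B C e) := by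
  rcases e with _ | _ | e
  · exact ha
  · exact hb
  · exact hc

theorem hSelM {a b c : Equiv.Perm ℕ} (ha : a ∈ AA) (hb : b ∈ AA) (hc : c ∈ AA) (e : ℕ) : sel3 a b c e ∈ AA := by
  rcases e with _ | _ | e
  · exact ha
  · exact hb
  · exact hc

theorem y_rels : ∀ R ∈ Rs, prodG (sel3 xP fP yP) R = 1 := by
  intro R hR'
  have h : Rs.all (fun R => relB lk (sel3 sX sF sY) base R) = true := by decide +kernel
  exact one_of_relB hCh (hSel r_x r_f.toL r_y) (hSelM m_x m_f m_y) hbase ((List.all_eq_true.mp h) R hR')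

theorem t_f : tP * fP = fP * tP := by
  rw [f_eq]
  group

end Cfsg.Agent.Lib.FiO
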