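import Mathlib
import Cfsg.Agent.S1691

/-!
# The commutator subgroup of the presented group `Fi₂₄` and the sign
-/

set_option autoImplicit false
set_option linter.all false

namespace Cfsg.Agent.Lib.FiO

open Cfsg.Spor Cfsg.Spor.Fi24 Cfsg.Agent.S1691

/-- a generator of the group -/
noncomputable abbrev ofG (x : Gen) : Fi24 := PresentedGroup.of x

/-- the subgroup generated by the products of two generators -/
noncomputable def pairsC : Subgroup Fi24 := Subgroup.closure (Set.range fun x : Gen => ofG x * ofG Gen.l)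

theorem ofG_inv (x : Gen) : (ofG x)⁻¹ = ofG x := inv_eq_of_mul_eq_one_left (sq_one x)

theorem conj_l {k : Fi24} (hk : k ∈ pairsC) : ofG Gen.l * k * ofG Gen.l ∈ pairsC := by
  have hl := sq_one Gen.l
  induction hk using Subgroup.closure_induction with
  | mem z hz =>
    obtain ⟨x, rfl⟩ := hz
    have e : ofG Gen.l * (ofG x * ofG Gen.l) * ofG Gen.l = (ofG x * ofG Gen.l)⁻¹ := by
      rw [mul_inv_rev, ofG_inv, ofG_inv, mul_assoc, mul_assoc]
      show ofG Gen.l * (ofG x * (ofG Gen.l * ofG Gen.l)) = _
      rw [show ofG Gen.l * ofG Gen.l = 1 from hl, mul_one]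
    rw [e]
    exact Subgroup.inv_mem _ (Subgroup.subset_closure ⟨x, rfl⟩)
  | one =>
    rw [mul_one]
    rw [show ofG Gen.l * ofG Gen.l = 1 from hl]
    exact Subgroup.one_mem _
  | mul a b _ _ ha hb =>
    have e : ofG Gen.l * (a * b) * ofG Gen.l = (ofG Gen.l * a * ofG Gen.l) * (ofG Gen.l * b * ofG Gen.l) := by
      calc ofG Gen.l * (a * b) * ofG Gen.l = ofG Gen.l * a * 1 * b * ofG Gen.l := by group
        _ = ofG Gen.l * a * (ofG Gen.l * ofG Gen.l) * b * ofG Gen.l := by rw [show ofG Gen.l * ofG Gen.l = 1 from hl]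
        _ = _ := by group
    rw [e]
    exact Subgroup.mul_mem _ ha hb
  | inv a _ ha =>
    have e : ofG Gen.l * a⁻¹ * ofG Gen.l = (ofG Gen.l * a * ofG Gen.l)⁻¹ := by
      rw [mul_inv_rev, mul_inv_rev, ofG_inv, mul_assoc]
    rw [e]
    exact Subgroup.inv_mem _ ha

/-- The two cosets. -/
theorem two_cosets (z : Fi24) :
    (z ∈ pairsC ∧ sign z = 1) ∨ (z * ofG Gen.l ∈ pairsC ∧ sign z = Multiplicative.ofAdd 1) := by
  have hl := sq_one Gen.l
  have hsq : (Multiplicative.ofAdd (1 : ZMod 2)) * Multiplicative.ofAdd 1 = 1 := by decide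
  induction z using PresentedGroup.induction_on with
  | _ w =>
    induction w using FreeGroup.induction_on with
    | C1 =>
      left
      exact ⟨Subgroup.one_mem _, map_one _⟩
    | of x =>
      right
      exact ⟨Subgroup.subset_closure ⟨x, rfl⟩, sign_of x⟩
    | inv_of x ih =>
      right
      have e : (PresentedGroup.mk rels (FreeGroup.of x)⁻¹ : Fi24) = ofG x := by
        have : (PresentedGroup.mk rels (FreeGroup.of x)⁻¹ : Fi24) = (ofG x)⁻¹ := by
          simp [PresentedGroup.of]
        rw [this, ofG_inv]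
      rw [e]
      exact ⟨Subgroup.subset_closure ⟨x, rfl⟩, sign_of x⟩
    | mul a b ha hb =>
      have e : (PresentedGroup.mk rels (a * b) : Fi24) = PresentedGroup.mk rels a * PresentedGroup.mk rels b := map_mul _ _ _
      rw [e]
      set A : Fi24 := PresentedGroup.mk rels a
      set B : Fi24 := PresentedGroup.mk rels b
      have hl1 : ofG Gen.l * ofG Gen.l = 1 := hl
      rcases ha with ⟨ha, sa⟩ | ⟨ha, sa⟩ <;> rcases hb with ⟨hb, sb⟩ | ⟨hb, sb⟩
      · left
        exact ⟨Subgroup.mul_mem _ ha hb, by rw [map_mul, sa, sb, one_mul]⟩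
      · right
        refine ⟨?_, by rw [map_mul, sa, sb, one_mul]⟩
        rw [mul_assoc]
        exact Subgroup.mul_mem _ ha hb
      · right
        refine ⟨?_, by rw [map_mul, sa, sb, mul_one]⟩
        have e2 : A * B * ofG Gen.l = (A * ofG Gen.l) * (ofG Gen.l * B * ofG Gen.l) := by
          calc A * B * ofG Gen.l = A * 1 * B * ofG Gen.l := by group
            _ = A * (ofG Gen.l * ofG Gen.l) * B * ofG Gen.l := by rw [hl1]
            _ = _ := by group
        rw [e2]
        exact Subgroup.mul_mem _ ha (conj_l hb)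
      · left
        refine ⟨?_, by rw [map_mul, sa, sb, hsq]⟩
        have e2 : A * B = (A * ofG Gen.l) * (ofG Gen.l * (B * ofG Gen.l) * ofG Gen.l) := by
          calc A * B = A * 1 * B * 1 := by group
            _ = A * (ofG Gen.l * ofG Gen.l) * B * (ofG Gen.l * ofG Gen.l) := by rw [hl1]
            _ = _ := by group
        rw [e2]
        exact Subgroup.mul_mem _ ha (conj_l hb)

theorem comm_le : commutator Fi24 ≤ pairsC := by
  intro z hz
  have h1 : sign z = 1 := by
    rw [← ker_eq] at hz
    exact hz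
  rcases two_cosets z with ⟨h2, -⟩ | ⟨-, h2⟩
  · exact h2
  · rw [h1] at h2
    exact absurd h2 (by decide)

/-- An element of odd order lies in the commutator subgroup. -/
theorem mem_comm_of_odd {z : Fi24} {m : ℕ} (hm : Odd m) (hz : z ^ m = 1) : z ∈ commutator Fi24 := by
  rw [← ker_eq, MonoidHom.mem_ker]
  have h1 : sign z ^ m = 1 := by rw [← map_pow, hz, map_one]
  obtain ⟨k, rfl⟩ := hm
  have h2 : ∀ u : Multiplicative (ZMod 2), u ^ 2 = 1 := by decide
  rw [pow_succ, pow_mul, h2, one_pow, one_mul] at h1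
  exact h1

/-- A square lies in the commutator subgroup. -/
theorem mem_comm_sq (z : Fi24) : z * z ∈ commutator Fi24 := by
  rw [← ker_eq, MonoidHom.mem_ker, map_mul]
  generalize sign z = u
  revert u
  decide

/-- a word in generators -/
noncomputable def wordG (w : List Gen) : Fi24 := (w.map ofG).prod

theorem sign_wordG (w : List Gen) : sign (wordG w) = Multiplicative.ofAdd ((w.length : ℕ) : ZMod 2) := by
  induction w with
  | nil =>
    simp [wordG]
  | cons x w ih =>
    have e : wordG (x :: w) = ofG x * wordG w := by simp [wordG]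
    rw [e, map_mul, ih, sign_of, ← ofAdd_add]
    congr 1
    simp only [List.length_cons, Nat.cast_add, Nat.cast_one]
    ring

theorem wordG_notMem {w : List Gen} (h : Odd w.length) : wordG w ∉ commutator Fi24 := by
  intro h1
  rw [← ker_eq, MonoidHom.mem_ker, sign_wordG] at h1
  obtain ⟨k, hk⟩ := h
  rw [hk] at h1
  have h2 : ((2 * k + 1 : ℕ) : ZMod 2) = 1 := by
    have : ((2 : ℕ) : ZMod 2) = 0 := by decide
    simp only [Nat.cast_add, Nat.cast_mul, this, zero_mul, zero_add, Nat.cast_one]
  rw [h2] at h1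
  revert h1
  decide

end Cfsg.Agent.Lib.FiO
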