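import Mathlib
import Cfsg.Agent.Lib.FiO.Lk

set_option autoImplicit false
set_option maxRecDepth 100000
set_option Elab.async false
set_option linter.all false

namespace Cfsg.Agent.Lib.FiO

open Cfsg.Spor Cfsg.Agent.Lib.OutStrip Cfsg.Agent.Lib.TcFacts Cfsg.Agent.Lib.TcBits Cfsg.Agent.Lib.TcChain Cfsg.Agent.Lib.TcPres
open Cfsg.Agent.TcData.Fi24
open Cfsg.Agent.TcData.Fi24.I306936 (pr Phi hR hv)

theorem pcF8 : allN pF 13 65536 = true := by decide +kernel

theorem pcF9 : allN pF 13 73728 = true := by decide +kernel

theorem pcF10 : allN pF 13 81920 = true := by decide +kernel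

theorem pcF11 : allN pF 13 90112 = true := by decide +kernel

theorem pcF12 : allN pF 13 98304 = true := by decide +kernel

theorem pcF13 : allN pF 13 106496 = true := by decide +kernel

theorem pcF14 : allN pF 13 114688 = true := by decide +kernel

theorem pcF15 : allN pF 13 122880 = true := by decide +kernel

end Cfsg.Agent.Lib.FiO
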