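import Mathlib
import Cfsg.Agent.Lib.FiO.Lk

set_option autoImplicit false
set_option maxRecDepth 100000
set_option Elab.async false
set_option linter.all false

namespace Cfsg.Agent.Lib.FiO

open Cfsg.Spor Cfsg.Agent.Lib.OutStrip Cfsg.Agent.Lib.TcFacts Cfsg.Agent.Lib.TcBits Cfsg.Agent.Lib.TcChain Cfsg.Agent.Lib.TcPres
open Cfsg.Agent.TcData.Fi24
open Cfsg.Agent.TcData.Fi24.I306936 (pr Phi hR hv)

theorem pcX0 : allN pX 13 0 = true := by decide +kernel

theorem pcX1 : allN pX 13 8192 = true := by decide +kernel

theorem pcX2 : allN pX 13 16384 = true := by decide +kernel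

theorem pcX3 : allN pX 13 24576 = true := by decide +kernel

theorem pcX4 : allN pX 13 32768 = true := by decide +kernel

theorem pcX5 : allN pX 13 40960 = true := by decide +kernel

theorem pcX6 : allN pX 13 49152 = true := by decide +kernel

theorem pcX7 : allN pX 13 57344 = true := by decide +kernel

end Cfsg.Agent.Lib.FiO
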