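import Mathlib
import Cfsg.Agent.Lib.FiO.Lk

set_option autoImplicit false
set_option maxRecDepth 100000
set_option Elab.async false
set_option linter.all false

namespace Cfsg.Agent.Lib.FiO

open Cfsg.Spor Cfsg.Agent.Lib.OutStrip Cfsg.Agent.Lib.TcFacts Cfsg.Agent.Lib.TcBits Cfsg.Agent.Lib.TcChain Cfsg.Agent.Lib.TcPres
open Cfsg.Agent.TcData.Fi24
open Cfsg.Agent.TcData.Fi24.I306936 (pr Phi hR hv)

theorem pcX32 : allN pX 13 262144 = true := by decide +kernel

theorem pcX33 : allN pX 13 270336 = true := by decide +kernel

theorem pcX34 : allN pX 13 278528 = true := by decide +kernel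

theorem pcX35 : allN pX 13 286720 = true := by decide +kernel

theorem pcX36 : allN pX 13 294912 = true := by decide +kernel

theorem pcX37 : allN pX 13 303104 = true := by decide +kernel

end Cfsg.Agent.Lib.FiO
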