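import Mathlib
import Cfsg.Agent.Lib.FiO.Elts
import Cfsg.Agent.Lib.FiO.SX0
import Cfsg.Agent.Lib.FiO.SX1
import Cfsg.Agent.Lib.FiO.SX2
import Cfsg.Agent.Lib.FiO.SX3
import Cfsg.Agent.Lib.FiO.SX4
import Cfsg.Agent.Lib.FiO.SF0
import Cfsg.Agent.Lib.FiO.SF1
import Cfsg.Agent.Lib.FiO.SF2
import Cfsg.Agent.Lib.FiO.SF3
import Cfsg.Agent.Lib.FiO.SF4

/-!
# The searches: the centralizers of `x` and `F`
-/

set_option autoImplicit false
set_option maxRecDepth 100000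
set_option Elab.async false
set_option linter.all false

namespace Cfsg.Agent.Lib.FiO

open Cfsg.Spor Cfsg.Agent.Lib.OutStrip Cfsg.Agent.Lib.TcFacts Cfsg.Agent.Lib.TcBits Cfsg.Agent.Lib.TcChain Cfsg.Agent.Lib.TcPres
open Cfsg.Agent.TcData.Fi24
open Cfsg.Agent.TcData.Fi24.I306936 (pr Phi hR hv)

theorem allX : ∀ c, c < nn → pX c = true := by
  intro c hc
  refine of_pieces pX 13 38 ?_ c (lt_of_lt_of_le hc (by norm_num [nn]))
  intro i hi
  interval_cases i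
  exacts [pcX0, pcX1, pcX2, pcX3, pcX4, pcX5, pcX6, pcX7, pcX8, pcX9, pcX10, pcX11, pcX12, pcX13, pcX14, pcX15, pcX16, pcX17, pcX18, pcX19, pcX20, pcX21, pcX22, pcX23, pcX24, pcX25, pcX26, pcX27, pcX28, pcX29, pcX30, pcX31, pcX32, pcX33, pcX34, pcX35, pcX36, pcX37]

theorem allF : ∀ c, c < nn → pF c = true := by
  intro c hc
  refine of_pieces pF 13 38 ?_ c (lt_of_lt_of_le hc (by norm_num [nn]))
  intro i hi
  interval_cases i
  exacts [pcF0, pcF1, pcF2, pcF3, pcF4, pcF5, pcF6, pcF7, pcF8, pcF9, pcF10, pcF11, pcF12, pcF13, pcF14, pcF15, pcF16, pcF17, pcF18, pcF19, pcF20, pcF21, pcF22, pcF23, pcF24, pcF25, pcF26, pcF27, pcF28, pcF29, pcF30, pcF31, pcF32, pcF33, pcF34, pcF35, pcF36, pcF37]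

theorem cent_x2 {y : Equiv.Perm ℕ} (hy : y ∈ AA) (hc : y * x2P = x2P * y) : ∃ k : ℕ, y = x2P ^ k := by
  have hc' : y⁻¹ * x2P = x2P * y⁻¹ := by
    rw [eq_mul_inv_iff_mul_eq, mul_assoc, ← hc, ← mul_assoc, inv_mul_cancel, one_mul]
  obtain ⟨k, hk⟩ := cent_of_searchL (lkS := lkS) (lkL := lkS) (fuel := 10) (b₀ := 0) (K := 29) (K' := 29) hCh r_x2 m_x2 (by norm_num)
    (by norm_num) (by decide +kernel) hbase allX (AA.inv_mem hy) (lt_AA (AA.inv_mem hy)) hc'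
  exact ⟨k, by simpa using hk⟩

theorem ciP_c : ciP * cP = 1 := by
  rw [ci_eq]
  group

theorem x2_eq : x2P = cP * xP * ciP := by
  rw [ci_eq, c_x]
  group

/-- The centralizer of `x`. -/
theorem cent_x {y : Equiv.Perm ℕ} (hy : y ∈ AA) (hc : y * xP = xP * y) : ∃ k : ℕ, y = xP ^ k := by
  set y' := cP * y * cP⁻¹ with hy'
  have hm : y' ∈ AA := AA.mul_mem (AA.mul_mem m_c hy) (AA.inv_mem m_c)
  have h1 : y' * x2P = x2P * y' := by
    rw [x2_eq, ci_eq, hy']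
    calc cP * y * cP⁻¹ * (cP * xP * cP⁻¹) = cP * (y * xP) * cP⁻¹ := by group
      _ = cP * (xP * y) * cP⁻¹ := by rw [hc]
      _ = _ := by group
  obtain ⟨k, hk⟩ := cent_x2 hm h1
  refine ⟨k, ?_⟩
  have h2 : x2P ^ k = cP * xP ^ k * cP⁻¹ := by
    rw [x2_eq, ci_eq]
    exact conj_pow
  rw [h2, hy'] at hk
  have h3 : cP * y * cP⁻¹ * cP = cP * xP ^ k * cP⁻¹ * cP := by rw [hk]
  simp only [inv_mul_cancel_right] at h3
  exact mul_left_cancel h3

/-- The element of the centralizer of `F` satisfying the relators. -/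
theorem frameF {y : Equiv.Perm ℕ} (hy : y ∈ AA) (hc : y * fP = fP * y)
    (hr : ∀ R ∈ Rs, prodG (sel3 xP fP y) R = 1) : y = yP := by
  have hc' : y⁻¹ * fP = fP * y⁻¹ := by
    rw [eq_mul_inv_iff_mul_eq, mul_assoc, ← hc, ← mul_assoc, inv_mul_cancel, one_mul]
  obtain ⟨L, hL, h5⟩ := frame_of_searchL (lkS := lkS) (lkL := lkS) (fuel := 10) (b₀ := 0) (K := 28) hCh r_f r_t m_t t_f
    (by norm_num) (by norm_num) (by decide +kernel) hbase (XL := sX) (FL := sF) (YL := sY) (Rs := Rs) allF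
    (AA.inv_mem hy) (lt_AA (AA.inv_mem hy)) hc'
  rw [inv_inv] at hL
  have hall : Rs.all (fun R => relB lk (sel3 sX sF L) base R) = true := by
    rw [List.all_eq_true]
    intro r hr'
    exact relB_of (hSel r_x r_f.toL hL) (s := sel3 xP fP y) hbase (hr r hr')
  exact eq_of_agree hCh hy m_y hL r_y hbase (h5 hall)

end Cfsg.Agent.Lib.FiO
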