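import Mathlib
import Cfsg.Agent.Lib.FiO.Srch
import Cfsg.Agent.Lib.FiO.Sign
import Cfsg.Agent.Lib.OutNorm2

/-!
# `Out` of the derived subgroup of `Fi₂₄` has order 2
-/

set_option autoImplicit false
set_option maxRecDepth 100000
set_option Elab.async false
set_option linter.all false

namespace Cfsg.Agent.Lib.FiO

open Cfsg Cfsg.Spor Cfsg.Agent.Lib.OutStrip Cfsg.Agent.Lib.TcFacts Cfsg.Agent.Lib.TcBits Cfsg.Agent.Lib.TcChain Cfsg.Agent.Lib.TcPres
open Cfsg.Agent.Lib.OutNorm Cfsg.Agent.Lib.OutNorm2 Cfsg.Agent.S1691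
open Cfsg.Agent.TcData.Fi24
open Cfsg.Agent.TcData.Fi24.I306936 (pr Phi hR hv)

/-- the identification of the group with the group of programs -/
noncomputable def psiA : Fi24 ≃* AA :=
  (MonoidHom.ofInjective Phi_bij).trans (MulEquiv.subgroupCongr hRange.symm)

theorem psiA_val (z : Fi24) : ((psiA z : AA) : Equiv.Perm ℕ) = Phi z := rfl

/-- a preimage of an element of the group of programs -/
noncomputable def pre (p : Equiv.Perm ℕ) (hp : p ∈ AA) : Fi24 := psiA.symm ⟨p, hp⟩

theorem Phi_pre (p : Equiv.Perm ℕ) (hp : p ∈ AA) : Phi (pre p hp) = p := by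
  rw [← psiA_val, pre, MulEquiv.apply_symm_apply]

theorem mem_AA (z : Fi24) : Phi z ∈ AA := by
  rw [hRange]
  exact ⟨z, rfl⟩

/-- the generator of a number -/
def gn (i : ℕ) : Cfsg.Spor.Fi24.Gen := gensL.getD i .l

theorem Phi_ofG (i : ℕ) (hi : i ∈ S0) : Phi (ofG (gn i)) = progPerm (pL i) := by
  rw [Phi_of, hS0 i hi]
  rfl

theorem Phi_word (w : List (ℕ × Bool)) (hw : ∀ a ∈ w, a.1 ∈ S0 ∧ a.2 = true) :
    Phi (wordG (w.map fun a => gn a.1)) = wordPerm (sgnProg pL) w := by
  induction w with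
  | nil => simp [wordG, wordPerm]
  | cons a w ih =>
    have e1 : wordG ((a :: w).map fun a => gn a.1) = ofG (gn a.1) * wordG (w.map fun a => gn a.1) := by
      simp [wordG]
    have e2 : wordPerm (sgnProg pL) (a :: w) = progPerm (sgnProg pL a) * wordPerm (sgnProg pL) w := by
      simp [wordPerm]
    rw [e1, e2, map_mul, ih fun b hb => hw b (List.mem_cons_of_mem _ hb)]
    obtain ⟨i, b⟩ := a
    obtain ⟨h1, h2⟩ := hw (i, b) List.mem_cons_self
    simp only at h1 h2
    subst h2
    rw [Phi_ofG i h1]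
    rfl

/-- the element `x` in the presented group -/
noncomputable def xF : Fi24 := pre xP m_x
/-- the element `y` in the presented group -/
noncomputable def yF : Fi24 := pre yP m_y
/-- the element `t` in the presented group -/
noncomputable def tF' : Fi24 := wordG ((wTab 22).map fun a => gn a.1)
/-- the element `f` in the presented group -/
noncomputable def fF : Fi24 := tF' * tF'

theorem Phi_x : Phi xF = xP := Phi_pre _ _
theorem Phi_y : Phi yF = yP := Phi_pre _ _
theorem Phi_t : Phi tF' = tP := Phi_word _ (by decide +kernel)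
theorem Phi_f : Phi fF = fP := by
  rw [fF, map_mul, Phi_t, f_eq]

theorem xF_pow : xF ^ 29 = 1 := Phi_bij (by rw [map_pow, Phi_x, x_pow, map_one])
theorem yF_pow : yF ^ 3 = 1 := Phi_bij (by rw [map_pow, Phi_y, y_pow, map_one])

theorem t_odd : tF' ∉ commutator Fi24 := by
  apply wordG_notMem
  have h : ((wTab 22).map fun a => gn a.1).length = 2 * 49 + 1 := by
    rw [List.length_map]
    decide +kernel
  rw [h]
  exact ⟨49, rfl⟩

/-- the element `x` -/
noncomputable def xG : Fi24' := ⟨xF, mem_comm_of_odd (by decide) xF_pow⟩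
/-- the element `y` -/
noncomputable def yG : Fi24' := ⟨yF, mem_comm_of_odd (by decide) yF_pow⟩
/-- the element `f` -/
noncomputable def fG : Fi24' := ⟨fF, mem_comm_sq tF'⟩

/-- the map to permutations -/
noncomputable def iota : Fi24' →* Equiv.Perm ℕ := Phi.comp (commutator Fi24).subtype

theorem iota_apply (z : Fi24') : iota z = Phi z.1 := rfl

theorem iota_inj : Function.Injective iota := fun _ _ h => Subtype.ext (Phi_bij h)

theorem iota_x : iota xG = xP := Phi_x
theorem iota_y : iota yG = yP := Phi_y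
theorem iota_f : iota fG = fP := Phi_f
theorem iota_mem (z : Fi24') : iota z ∈ AA := mem_AA _

theorem xG_pow : xG ^ 29 = 1 := iota_inj (by rw [map_pow, iota_x, x_pow, map_one])

theorem xG_ord : orderOf xG = 29 := by
  haveI : Fact (Nat.Prime 29) := ⟨by norm_num⟩
  refine orderOf_eq_prime xG_pow fun h => x_ne ?_
  rw [← iota_x, h, map_one]

theorem f_x_P : fP * xP * fP⁻¹ = xP ^ 4 := by
  rw [mul_inv_eq_iff_eq_mul]
  exact f_x

theorem fG_xG : fG * xG * fG⁻¹ = xG ^ 4 :=
  iota_inj (by simp only [map_mul, map_inv, map_pow, iota_x, iota_f]; exact f_x_P)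

theorem hC_G (y : Fi24') (hy : y * xG = xG * y) : ∃ k : ℕ, y = xG ^ k := by
  have h1 : iota y * xP = xP * iota y := by
    rw [← iota_x, ← map_mul, ← map_mul, hy]
  obtain ⟨k, hk⟩ := cent_x (iota_mem y) h1
  exact ⟨k, iota_inj (by rw [hk, map_pow, iota_x])⟩

instance instFG : Finite Fi24' := Subtype.finite

theorem hnf (α : MulAut Fi24') : ∃ c : Fi24', ((MulAut.conj c * α) xG = xG ∨ (MulAut.conj c * α) xG = xG ^ 27) ∧
    (MulAut.conj c * α) fG = fG := by
  have : Fact (Nat.Prime 29) := ⟨by norm_num⟩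
  obtain ⟨c, e, he, h1, h2⟩ := normal_form2 (p := 29) (a := 4) (b := 10) [1, 27] (x := xG) (f := fG) (by decide)
    (by
      rw [Cfsg.Agent.Lib.F24Main.card_HC]
      norm_num)
    xG_ord fG_xG
    (by
      intro k hk
      have harith : ∀ r : Fin 29, r.val ≠ 0 → ∃ j : Fin 14, ∃ e ∈ [1, 27], (r.val * 4 ^ j.val) % 29 = e % 29 := by
        decide +kernel
      have hk' : k % 29 ≠ 0 := fun h => hk (Nat.dvd_of_mod_eq_zero h)
      obtain ⟨j, e, he, hj⟩ := harith ⟨k % 29, Nat.mod_lt _ (by norm_num)⟩ hk'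
      simp only at hj
      exact ⟨j.val, e, he, ((Nat.mod_modEq k 29).mul_right _).symm.trans hj⟩)
    (by decide)
    hC_G
    α
  refine ⟨c, ?_, h2⟩
  simp only [List.mem_cons, List.not_mem_nil, or_false] at he
  rcases he with rfl | rfl
  · left
    simpa using h1
  · right
    exact h1

/-! ### the rigidity -/

theorem yG_f : yG * fG = fG * yG := iota_inj (by
  simp only [map_mul, iota_y, iota_f]
  exact y_f)

theorem hG_rels : ∀ r ∈ Rs, prodG (sel3 xG fG yG) r = 1 := by
  intro r hr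
  apply iota_inj
  rw [map_prodG, map_one]
  have h4 : (fun e => iota (sel3 xG fG yG e)) = sel3 xP fP yP := by
    funext e
    rw [sel3_map iota xG fG yG e, iota_x, iota_f, iota_y]
  rw [h4]
  exact y_rels r hr

theorem fix_y (β : MulAut Fi24') (h1 : β xG = xG) (h2 : β fG = fG) : β yG = yG := by
  set z := β yG with hz
  have hZ : ∀ r ∈ Rs, prodG (sel3 xG fG z) r = 1 := by
    intro r hr
    have h3 := map_prodG β.toMonoidHom (sel3 xG fG yG) r
    have h4 : (fun e => β.toMonoidHom (sel3 xG fG yG e)) = sel3 xG fG z := by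
      funext e
      have := sel3_map β.toMonoidHom xG fG yG e
      rw [this]
      show sel3 (β xG) (β fG) (β yG) e = _
      rw [h1, h2]
    rw [h4, hG_rels r hr, map_one] at h3
    exact h3.symm
  have hZP : ∀ r ∈ Rs, prodG (sel3 xP fP (iota z)) r = 1 := by
    intro r hr
    have h3 := map_prodG iota (sel3 xG fG z) r
    have h4 : (fun e => iota (sel3 xG fG z e)) = sel3 xP fP (iota z) := by
      funext e
      rw [sel3_map iota xG fG z e, iota_x, iota_f]
    rw [h4, hZ r hr, map_one] at h3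
    exact h3.symm
  have hc : iota z * fP = fP * iota z := by
    have h3 := congrArg β yG_f
    rw [map_mul, map_mul, h2] at h3
    have h4 := congrArg iota h3
    rwa [map_mul, map_mul, iota_f] at h4
  have h5 := frameF (iota_mem z) hc hZP
  exact iota_inj (by rw [h5, iota_y])

/-! ### the generation -/

theorem tr0 : trIL.getD 0 [] = iX := by decide +kernel
theorem tri0 : triIL.getD 0 [] = iXi := by decide +kernel
theorem tr1 : trIL.getD 1 [] = iF := by decide +kernel
theorem tri1 : triIL.getD 1 [] = iFi := by decide +kernel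
theorem tr2 : trIL.getD 2 [] = iY := by decide +kernel
theorem tri2 : triIL.getD 2 [] = iYi := by decide +kernel

theorem getD_all (L : List (List ℕ)) (P : ℕ → Bool) (h : L.all (fun l => l.all P) = true) (i : ℕ) :
    (L.getD i []).all P = true := by
  rw [List.getD_eq_getElem?_getD]
  cases h2 : L[i]? with
  | none => rfl
  | some l =>
    have h3 : l ∈ L := List.mem_of_getElem? h2
    simpa using (List.all_eq_true.mp h) l h3

theorem hA : ∀ j, j < NT → ∃ s ∈ AA, RepT lk nn s (tab j) := fun j hj => ⟨sP j, hTm j hj, hTr j hj⟩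

theorem hGood (i : ℕ) : Good lk nn AA (tr i) :=
  good_of_idx hA _ (getD_all trIL _ (by decide +kernel) i)

theorem hGoodi (i : ℕ) : Good lk nn AA (tri i) :=
  good_of_idx hA _ (getD_all triIL _ (by decide +kernel) i)

theorem hstep : ∀ i, 3 ≤ i → i < NN → stepN lk (baseOf Ls) tr tri (wd i) i = true := by
  have key : ∀ c, c < 5 * 2 ^ 6 → nodeB c = true := by
    refine of_pieces nodeB 6 5 ?_
    intro i hi
    interval_cases i
    exacts [nd0, nd1, nd2, nd3, nd4]
  intro i h3 hi
  have h1 := key i (by norm_num [NN] at hi ⊢; omega)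
  have h2 : Nat.blt i NN = true := by
    rw [Nat.blt_eq]
    exact hi
  have h4 : Nat.ble 3 i = true := by
    rw [Nat.ble_eq]
    exact h3
  rw [nodeB, h2] at h1
  simp only [cond_true] at h1
  rw [h4] at h1
  exact h1

theorem nodes_K {K : Subgroup (Equiv.Perm ℕ)} (hKH : K ≤ AA) (hx : xP ∈ K) (hf : fP ∈ K) (hy : yP ∈ K) :
    ∀ i, i < NN → ∃ v ∈ K, RepL lk nn v (tr i) ∧ RepL lk nn v⁻¹ (tri i) := by
  refine nodes_ok hCh hbase hKH hGood hGoodi (N₀ := 3) (wd := wd) ?_ hstep
  intro i hi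
  interval_cases i
  · refine ⟨xP, hx, ?_, ?_⟩
    · show RepL lk nn xP ((trIL.getD 0 []).map tab)
      rw [tr0]
      exact r_x
    · show RepL lk nn xP⁻¹ ((triIL.getD 0 []).map tab)
      rw [tri0, ← xi_eq]
      exact r_xi
  · refine ⟨fP, hf, ?_, ?_⟩
    · show RepL lk nn fP ((trIL.getD 1 []).map tab)
      rw [tr1, ← f_f3]
      exact r_f3
    · show RepL lk nn fP⁻¹ ((triIL.getD 1 []).map tab)
      rw [tri1, ← fi_eq]
      exact r_fi
  · refine ⟨yP, hy, ?_, ?_⟩
    · show RepL lk nn yP ((trIL.getD 2 []).map tab)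
      rw [tr2]
      exact r_y
    · show RepL lk nn yP⁻¹ ((triIL.getD 2 []).map tab)
      rw [tri2, ← yi_eq]
      exact r_yi

theorem sP_gen (i : ℕ) (hi : i < 12) : sP i = Phi (ofG (gn i)) := by
  have hi' : i ∈ S0 := by
    revert i
    decide
  rw [Phi_ofG i hi']
  have h : wTab i = [(i, true)] := by
    revert i
    decide +kernel
  unfold sP
  rw [h]
  simp [wordPerm, sgnProg]

theorem tg_mem {K : Subgroup (Equiv.Perm ℕ)} (hKH : K ≤ AA) (hx : xP ∈ K) (hf : fP ∈ K) (hy : yP ∈ K) (i : ℕ) (hi : i < 12) :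
    Phi (ofG (gn i) * ofG (gn 0)) ∈ K := by
  have h1 := nodes_K hKH hx hf hy
  have h2 : i < NT := by norm_num [NT]; omega
  have h3 : (0 : ℕ) < NT := by norm_num [NT]
  rw [map_mul, ← sP_gen i hi, ← sP_gen 0 (by norm_num)]
  refine mem_of_nodes hCh hbase hKH h1 (AA.mul_mem (hTm i h2) (hTm 0 h3)) ((hTr i h2).toL.append (hTr 0 h3).toL) (tgL.getD i []) ?_ ?_
  · have key : ∀ i, i < 12 → (tgL.getD i []).all (fun a => Nat.blt a.1 NN) = true := by
      decide +kernel
    exact key i hi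
  · have key : ∀ i, i < 12 → agreeB lk base [tab i, tab 0] ((tgL.getD i []).flatMap fun a => cond a.2 (tr a.1) (tri a.1)) = true := by
      decide +kernel
    exact key i hi

theorem gn_surj (x : Cfsg.Spor.Fi24.Gen) : ∃ i, i < 12 ∧ gn i = x := by
  cases x
  · exact ⟨0, by norm_num, rfl⟩
  · exact ⟨1, by norm_num, rfl⟩
  · exact ⟨2, by norm_num, rfl⟩
  · exact ⟨3, by norm_num, rfl⟩
  · exact ⟨4, by norm_num, rfl⟩
  · exact ⟨5, by norm_num, rfl⟩
  · exact ⟨6, by norm_num, rfl⟩
  · exact ⟨7, by norm_num, rfl⟩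
  · exact ⟨8, by norm_num, rfl⟩
  · exact ⟨9, by norm_num, rfl⟩
  · exact ⟨10, by norm_num, rfl⟩
  · exact ⟨11, by norm_num, rfl⟩

theorem comm_K {K : Subgroup (Equiv.Perm ℕ)} (hKH : K ≤ AA) (hx : xP ∈ K) (hf : fP ∈ K) (hy : yP ∈ K) {z : Fi24}
    (hz : z ∈ commutator Fi24) : Phi z ∈ K := by
  have h1 : pairsC ≤ K.comap Phi := by
    apply (Subgroup.closure_le _).mpr
    rintro _ ⟨x, rfl⟩
    obtain ⟨i, hi, rfl⟩ := gn_surj x
    exact tg_mem hKH hx hf hy i hi
  exact h1 (comm_le hz)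

theorem hgen (β : MulAut Fi24') (h1 : β xG = xG) (h2 : β fG = fG) (h3 : β yG = yG) : β = 1 := by
  let F : Subgroup Fi24' := MonoidHom.eqLocus β.toMonoidHom (MonoidHom.id Fi24')
  have hKH : F.map iota ≤ AA := by
    rintro _ ⟨z, -, rfl⟩
    exact iota_mem z
  have hx : xP ∈ F.map iota := ⟨xG, h1, iota_x⟩
  have hf : fP ∈ F.map iota := ⟨fG, h2, iota_f⟩
  have hy : yP ∈ F.map iota := ⟨yG, h3, iota_y⟩
  refine MulEquiv.ext fun z => ?_
  obtain ⟨w, hw, e⟩ := comm_K hKH hx hf hy z.2
  have h4 : w = z := iota_inj e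
  subst h4
  exact hw

/-! ### the outer automorphism -/

/-- conjugation by the odd element -/
noncomputable def sigma : MulAut Fi24' := MulAut.conjNormal tF'

theorem sigma_val (z : Fi24') : ((sigma z : Fi24') : Fi24) = tF' * z.1 * tF'⁻¹ := rfl

theorem t_x_P : tP * xP * tP⁻¹ = xP ^ 27 := by
  rw [mul_inv_eq_iff_eq_mul]
  exact t_x

theorem sigma_x : sigma xG = xG ^ 27 := by
  apply iota_inj
  rw [map_pow, iota_x, iota_apply, sigma_val]
  show Phi (tF' * xF * tF'⁻¹) = _
  rw [map_mul, map_mul, map_inv, Phi_t, Phi_x, t_x_P]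

theorem sigma_f : sigma fG = fG := by
  apply Subtype.ext
  rw [sigma_val]
  show tF' * (tF' * tF') * tF'⁻¹ = tF' * tF'
  group

theorem sigma_notMem : sigma ∉ Cfsg.Inn Fi24' := by
  rintro ⟨c, hc⟩
  have h1 : c * xG * c⁻¹ = xG ^ 27 := by
    have h2 := sigma_x
    rw [← hc] at h2
    exact h2
  have h3 := congrArg iota h1
  simp only [map_mul, map_inv, map_pow, iota_x] at h3
  -- `c⁻¹ t` commutes with `x`
  set u : Fi24 := (c : Fi24)⁻¹ * tF' with hu
  have h4 : Phi u * xP = xP * Phi u := by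
    have e1 : Phi (c : Fi24) = iota c := rfl
    rw [hu, map_mul, map_inv, Phi_t, e1]
    have h5 : iota c * xP = xP ^ 27 * iota c := by
      rw [← h3]
      group
    have h6 : tP * xP = xP ^ 27 * tP := t_x
    calc (iota c)⁻¹ * tP * xP = (iota c)⁻¹ * (tP * xP) := by group
      _ = (iota c)⁻¹ * (xP ^ 27 * tP) := by rw [h6]
      _ = ((iota c)⁻¹ * xP ^ 27) * tP := by group
      _ = (xP * (iota c)⁻¹) * tP := by
        congr 1
        rw [inv_mul_eq_iff_eq_mul, ← mul_assoc, h5]
        group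
      _ = _ := by group
  obtain ⟨k, hk⟩ := cent_x (mem_AA u) h4
  have h7 : u = xF ^ k := Phi_bij (by rw [hk, map_pow, Phi_x])
  apply t_odd
  have h8 : tF' = (c : Fi24) * u := by
    rw [hu]
    group
  rw [h8, h7]
  exact (commutator Fi24).mul_mem c.2 ((commutator Fi24).pow_mem xG.2 k)

/-- The order of `Out(Fi₂₄′)`. -/
theorem card_out : Nat.card (Cfsg.Out Fi24') = 2 :=
  card_out_eq_two' hnf (fun β h3 h4 => hgen β h3 h4 (fix_y β h3 h4)) sigma sigma_x sigma_f sigma_notMem

end Cfsg.Agent.Lib.FiO
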